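import Groth.Agent.H15Site.PBC.Germs

/-!
# The canonical map `F_{f z} ⟶ (f⁻¹F)_z` is an isomorphism for every continuous map
-/

set_option autoImplicit false
set_option linter.style.haveILetI false
set_option linter.unusedSectionVars false
set_option backward.isDefEq.respectTransparency false

universe u

open CategoryTheory CategoryTheory.Limits Opposite TopologicalSpace

namespace Groth.Agent.H15Site.PBC

open Groth.Agent.H15Site.DescTop

attribute [local instance 10000] SiteInst.hasSheafifySite SiteInst.hasWeakSheafifySite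
  SiteInst.hasExtSite SiteInst.enoughInjSite

variable {X Z : TopCat.{u}} (f : Z ⟶ X) (F : CohTop.Ab X)

open Classical in
lemma sky_germ (x : X) {A : AddCommGrpCat.{u}} (k : CohTop.stalk F x ⟶ A) (U : Opens X) (hU : x ∈ U) :
    ((stalkSkyscraperSheafAdjunction x).unit.app F ≫ (skyscraperSheafFunctor x).map k).hom.app (op U) ≫
      eqToHom (if_pos hU) = TopCat.Presheaf.germ F.obj U x hU ≫ k := by
  simp [stalkSkyscraperSheafAdjunction, skyscraperSheafFunctor,
    StalkSkyscraperPresheafAdjunctionAuxs.unit, skyscraperPresheafFunctor,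
    SkyscraperPresheafFunctor.map']
  erw [NatTrans.comp_app]
  simp [StalkSkyscraperPresheafAdjunctionAuxs.toSkyscraperPresheaf_app, hU]

open Classical in
/-- The stalk of an inverse image is computed by `cmap`. -/
theorem isIso_cmap' (z : Z) : IsIso (cmap F f z) := by
  let adjB := stalkSkyscraperSheafAdjunction (C := AddCommGrpCat.{u}) (f z)
  let adjC := (TopCat.Sheaf.pullbackPushforwardAdjunction AddCommGrpCat.{u} f).comp
      (stalkSkyscraperSheafAdjunction z)
  let adjA := adjC.ofNatIsoRight (skyPushIso f z)
  let ψ := Adjunction.leftAdjointUniq adjB adjA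
  suffices h : cmap F f z = ψ.hom.app F by
    rw [h]; infer_instance
  have h := Adjunction.unit_leftAdjointUniq_hom_app adjB adjA F
  have hA : adjA.unit.app F = (un F f ≫ (CohTop.push f).map
      ((stalkSkyscraperSheafAdjunction z).unit.app ((CohTop.pull f).obj F))) ≫
      (skyPushIso f z).hom.app (CohTop.stalk ((CohTop.pull f).obj F) z) := by
    have e := Adjunction.homEquiv_ofNatIsoRight_apply adjC (skyPushIso f z) (X := F) (𝟙 _)
    rw [Adjunction.homEquiv_id] at e
    rw [show adjA.unit.app F = (adjC.ofNatIsoRight (skyPushIso f z)).unit.app F from rfl, e,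
      Adjunction.homEquiv_id]
    exact congrArg (· ≫ _) (Adjunction.comp_unit_app _ _ F)
  refine TopCat.Presheaf.stalk_hom_ext _ fun U hU => ?_
  have hU' := congrArg (fun (k : F ⟶ (skyscraperSheafFunctor (f z)).obj
    (CohTop.stalk ((CohTop.pull f).obj F) z)) => k.hom.app (op U) ≫ eqToHom (if_pos hU)) h
  refine Eq.trans ?_ (hU'.symm.trans (sky_germ F (f z) (ψ.hom.app F) U hU))
  rw [hA]
  ext s
  refine (cmap_gm F f z hU s).trans ?_
  have hz : z ∈ (Opens.map f).obj U := hU
  simp [stalkSkyscraperSheafAdjunction, skyscraperSheafFunctor, skyPushIso,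
    StalkSkyscraperPresheafAdjunctionAuxs.unit, skyscraperPresheafFunctor, hU, hz]

end Groth.Agent.H15Site.PBC
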