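import Groth.Agent.H15Site.DescTop.StalkPull
import Groth.Agent.H15Site.SiteInst
import Mathlib.Topology.Separation.Hausdorff

/-!
# Germ families on compact subsets extend to neighbourhoods
-/

set_option autoImplicit false
set_option linter.style.haveILetI false
set_option linter.unusedSectionVars false
set_option backward.isDefEq.respectTransparency false

universe u

open CategoryTheory CategoryTheory.Limits Opposite TopologicalSpace

namespace Groth.Agent.H15Site.PBC

open Groth.Agent.H15Site.DescTop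

attribute [local instance 10000] SiteInst.hasSheafifySite SiteInst.hasWeakSheafifySite
  SiteInst.hasExtSite SiteInst.enoughInjSite

variable {X : TopCat.{u}}

/-- The germ of a section. -/
noncomputable abbrev gm (F : CohTop.Ab X) {U : Opens X} (x : X) (hx : x ∈ U)
    (s : F.obj.obj (op U)) : CohTop.stalk F x :=
  TopCat.Presheaf.germ F.obj U x hx s

/-- A family of germs given locally on `A` by sections. -/
def IsGermFam (F : CohTop.Ab X) (A : Set X) (b : ∀ x : A, CohTop.stalk F x.1) : Prop :=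
  ∀ x : A, ∃ (W : Opens X) (_ : x.1 ∈ W) (t : F.obj.obj (op W)),
    ∀ (y : A) (hy : y.1 ∈ W), gm F y.1 hy t = b y

/-- Points of `A` are separated by disjoint opens of the ambient space. -/
def SepIn (A : Set X) : Prop :=
  ∀ x ∈ A, ∀ y ∈ A, x ≠ y → ∃ U V : Set X, IsOpen U ∧ IsOpen V ∧ x ∈ U ∧ y ∈ V ∧ Disjoint U V

lemma SepIn.mono {A B : Set X} (h : SepIn A) (hBA : B ⊆ A) : SepIn B :=
  fun x hx y hy => h x (hBA hx) y (hBA hy)

lemma SepIn.t2 {A : Set X} (h : SepIn A) : T2Space A :=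
  ⟨fun x y hxy => by
    obtain ⟨U, V, hU, hV, hxU, hyV, hd⟩ := h x.1 x.2 y.1 y.2 fun e => hxy (Subtype.ext e)
    exact ⟨Subtype.val ⁻¹' U, Subtype.val ⁻¹' V, hU.preimage continuous_subtype_val,
      hV.preimage continuous_subtype_val, hxU, hyV, hd.preimage _⟩⟩

/-- Disjoint compact subsets are separated. -/
lemma SepIn.compact_separated {A K L : Set X} (h : SepIn A) (hK : IsCompact K) (hL : IsCompact L)
    (hKA : K ⊆ A) (hLA : L ⊆ A) (hd : Disjoint K L) : SeparatedNhds K L := by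
  refine hK.induction_on (p := fun s => SeparatedNhds s L) ⟨∅, Set.univ, isOpen_empty, isOpen_univ,
    subset_rfl, Set.subset_univ _, Set.empty_disjoint _⟩ (fun s t hst ht => ht.mono hst subset_rfl)
    (fun s t hs ht => hs.union_left ht) fun x hx => ?_
  have h1 : SeparatedNhds {x} L := by
    refine hL.induction_on (p := fun s => SeparatedNhds {x} s) ⟨Set.univ, ∅, isOpen_univ, isOpen_empty,
      Set.subset_univ _, subset_rfl, Set.disjoint_empty _⟩ (fun s t hst ht => ht.mono subset_rfl hst)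
      (fun s t hs ht => hs.union_right ht) fun y hy => ?_
    obtain ⟨U, V, hU, hV, hxU, hyV, hUV⟩ := h x (hKA hx) y (hLA hy)
      fun e => Set.disjoint_left.1 hd hx (e ▸ hy)
    exact ⟨V, mem_nhdsWithin_of_mem_nhds (hV.mem_nhds hyV),
      U, V, hU, hV, Set.singleton_subset_iff.2 hxU, subset_rfl, hUV⟩
  obtain ⟨U, V, hU, hV, hxU, hLV, hUV⟩ := h1
  exact ⟨U, mem_nhdsWithin_of_mem_nhds (hU.mem_nhds (Set.singleton_subset_iff.1 hxU)),
    U, V, hU, hV, subset_rfl, hLV, hUV⟩

variable (F : CohTop.Ab X)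

lemma gm_res {U V : Opens X} (h : V ≤ U) (x : X) (hx : x ∈ V) (s : F.obj.obj (op U)) :
    gm F x hx (F.obj.map (homOfLE h).op s) = gm F x (h hx) s :=
  TopCat.Presheaf.germ_res_apply F.obj (homOfLE h) x hx s

/-- The open set where two sections agree. -/
def eqLocus {U V : Opens X} (s : F.obj.obj (op U)) (t : F.obj.obj (op V)) : Opens X where
  carrier := {x | ∃ (hx : x ∈ U) (hx' : x ∈ V), gm F x hx s = gm F x hx' t}
  is_open' := isOpen_iff_mem_nhds.2 fun x ⟨hx, hx', e⟩ => by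
    obtain ⟨W, hxW, iU, iV, hW⟩ := TopCat.Presheaf.germ_eq F.obj x hx hx' s t e
    refine Filter.mem_of_superset (W.isOpen.mem_nhds hxW) fun y hy => ⟨iU.le hy, iV.le hy, ?_⟩
    rw [gm, gm, ← TopCat.Presheaf.germ_res_apply F.obj iU y hy s,
      ← TopCat.Presheaf.germ_res_apply F.obj iV y hy t]
    exact congrArg _ hW

/-- A closed cover of a compact subset inside given opens. -/
lemma exists_compact_refinement {A : Set X} (hA : IsCompact A) (hs : SepIn A)
    (W : A → Opens X) (hW : ∀ x : A, x.1 ∈ W x) :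
    ∃ (J : Finset A) (K : A → Set X), (∀ j, IsCompact (K j) ∧ K j ⊆ A ∧ K j ⊆ (W j : Set X)) ∧
      A ⊆ ⋃ j ∈ J, K j := by
  haveI := isCompact_iff_compactSpace.1 hA
  haveI := hs.t2
  choose c hc hcc hcW using fun x : A =>
    exists_mem_nhds_isClosed_subset (x := x)
      (((W x).isOpen.preimage continuous_subtype_val).mem_nhds (hW x))
  obtain ⟨J, hJ⟩ := isCompact_univ.elim_nhds_subcover' (fun x _ => c x) fun x _ => hc x
  classical
  refine ⟨J.image Subtype.val, fun j => Subtype.val '' c j, fun j => ⟨(hcc j).isCompact.image continuous_subtype_val,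
    Subtype.coe_image_subset _ _, ?_⟩, fun a ha => ?_⟩
  · rintro _ ⟨y, hy, rfl⟩
    exact hcW j hy
  · obtain ⟨j, hj, hj'⟩ := Set.mem_iUnion₂.1 (hJ (Set.mem_univ (⟨a, ha⟩ : A)))
    exact Set.mem_iUnion₂.2 ⟨j.1, Finset.mem_image_of_mem _ hj, _, hj', rfl⟩

/-- **Gluing along a compact subset.** -/
theorem exists_extension {A : Set X} (hA : IsCompact A) (hs : SepIn A)
    (b : ∀ x : A, CohTop.stalk F x.1) (hb : IsGermFam F A b) :
    ∃ (U : Opens X) (hU : A ⊆ (U : Set X)) (s : F.obj.obj (op U)),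
      ∀ x : A, gm F x.1 (hU x.2) s = b x := by
  choose W hW t ht using hb
  obtain ⟨J, K, hK, hcov⟩ := exists_compact_refinement hA hs W hW
  have key : ∀ i j : A, ∃ P Q : Opens X, K i ⊆ (P : Set X) ∧ K j ⊆ (Q : Set X) ∧
      P ⊓ Q ≤ eqLocus F (t i) (t j) := fun i j => by
    let E := eqLocus F (t i) (t j)
    obtain ⟨P, Q, hP, hQ, hKP, hKQ, hd⟩ := hs.compact_separated
      ((hK i).1.diff E.isOpen) ((hK j).1.diff E.isOpen)
      (Set.sdiff_subset.trans (hK i).2.1) (Set.sdiff_subset.trans (hK j).2.1)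
      (Set.disjoint_left.2 fun x hxi hxj => hxi.2
        ⟨(hK i).2.2 hxi.1, (hK j).2.2 hxj.1,
          (ht i ⟨x, (hK i).2.1 hxi.1⟩ _).trans (ht j ⟨x, (hK i).2.1 hxi.1⟩ _).symm⟩)
    refine ⟨⟨P ∪ E, hP.union E.isOpen⟩, ⟨Q ∪ E, hQ.union E.isOpen⟩, fun x hx => ?_, fun x hx => ?_, ?_⟩
    · by_cases h : x ∈ E
      · exact Or.inr h
      · exact Or.inl (hKP ⟨hx, h⟩)
    · by_cases h : x ∈ E
      · exact Or.inr h
      · exact Or.inl (hKQ ⟨hx, h⟩)
    · rintro x ⟨hx | hx, hx' | hx'⟩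
      · exact absurd hx' (Set.disjoint_left.1 hd hx)
      all_goals first | exact hx | exact hx'
  choose P Q hP hQ hPQ using key
  let V : J → Opens X := fun i =>
    W i.1 ⊓ ⟨⋂ j : J, ((P i.1 j.1 : Set X) ∩ (Q j.1 i.1 : Set X)),
      isOpen_iInter_of_finite fun j => (P _ _).isOpen.inter (Q _ _).isOpen⟩
  have hAV : A ⊆ ((iSup V : Opens X) : Set X) := fun x hx => by
    obtain ⟨i, hi, hxi⟩ := Set.mem_iUnion₂.1 (hcov hx)
    exact Opens.mem_iSup.2 ⟨⟨i, hi⟩, (hK i).2.2 hxi,
      Set.mem_iInter.2 fun j => ⟨hP _ _ hxi, hQ _ _ hxi⟩⟩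
  let sf : ∀ i : J, F.obj.obj (op (V i)) := fun i => F.obj.map (homOfLE inf_le_left).op (t i.1)
  have hcomp : TopCat.Presheaf.IsCompatible F.obj V sf := fun i j => by
    refine TopCat.Presheaf.section_ext (F : TopCat.Sheaf AddCommGrpCat.{u} X) _ _ _ fun y hy => ?_
    refine (TopCat.Presheaf.germ_res_apply F.obj _ y hy (sf i)).trans
      (Eq.trans ?_ (TopCat.Presheaf.germ_res_apply F.obj _ y hy (sf j)).symm)
    refine (gm_res F inf_le_left y hy.1 (t i.1)).trans
      (Eq.trans ?_ (gm_res F inf_le_left y hy.2 (t j.1)).symm)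
    obtain ⟨h1, h2, e⟩ := hPQ i.1 j.1 ⟨(Set.mem_iInter.1 hy.1.2 j).1, (Set.mem_iInter.1 hy.2.2 i).2⟩
    exact e
  obtain ⟨s, hs', -⟩ := TopCat.Sheaf.existsUnique_gluing (F : TopCat.Sheaf AddCommGrpCat.{u} X) V sf hcomp
  refine ⟨iSup V, hAV, s, fun x => ?_⟩
  obtain ⟨i, hi⟩ := Opens.mem_iSup.1 (hAV x.2)
  refine ((TopCat.Presheaf.germ_res_apply F.obj (Opens.leSupr V i) x.1 hi s).symm.trans ?_)
  refine (congrArg _ (hs' i)).trans ?_
  exact (gm_res F inf_le_left x.1 hi (t i.1)).trans (ht i.1 x hi.1)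

section Pullback

variable {Z : TopCat.{u}} (i : Z ⟶ X)

/-- The unit. -/
noncomputable abbrev un : F ⟶ (CohTop.push i).obj ((CohTop.pull i).obj F) :=
  (TopCat.Sheaf.pullbackPushforwardAdjunction AddCommGrpCat.{u} i).unit.app F

/-- The canonical map `F_{i z} ⟶ (i⁻¹F)_z`. -/
noncomputable def cmap (z : Z) : CohTop.stalk F (i z) ⟶ CohTop.stalk ((CohTop.pull i).obj F) z :=
  (stk (i z)).map (un F i) ≫ TopCat.Presheaf.stalkPushforward _ i ((CohTop.pull i).obj F).obj z

lemma cmap_gm (z : Z) {U : Opens X} (hz : i z ∈ U) (s : F.obj.obj (op U)) :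
    (cmap F i z).hom (gm F (i z) hz s) =
      gm ((CohTop.pull i).obj F) (U := (Opens.map i).obj U) z hz ((un F i).hom.app (op U) s) := by
  show (TopCat.Presheaf.stalkPushforward _ i ((CohTop.pull i).obj F).obj z).hom
    (((TopCat.Presheaf.stalkFunctor AddCommGrpCat.{u} (i z)).map (un F i).hom).hom (gm F (i z) hz s)) = _
  refine (congrArg _ (TopCat.Presheaf.stalkFunctor_map_germ_apply U (i z) hz (un F i).hom s)).trans ?_
  exact ConcreteCategory.congr_hom
    (TopCat.Presheaf.stalkPushforward_germ AddCommGrpCat.{u} i ((CohTop.pull i).obj F).obj U z hz) _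

theorem isIso_cmap (hi : Topology.IsInducing i) (z : Z) : IsIso (cmap F i z) := by
  haveI := isIso_stk_unit i hi F z
  haveI := TopCat.Presheaf.stalkPushforward.stalkPushforward_iso_of_isInducing AddCommGrpCat.{u} hi
    ((CohTop.pull i).obj F).obj z
  exact IsIso.comp_isIso

end Pullback

end Groth.Agent.H15Site.PBC
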