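import Groth.Agent.H15Site.PBC.Restrict
import Mathlib.CategoryTheory.Limits.ConcreteCategory.Basic
import Mathlib.CategoryTheory.Abelian.GrothendieckAxioms.Basic
import Mathlib.Algebra.Category.Grp.AB
import Mathlib.Algebra.Category.Grp.FilteredColimits

/-!
# Cohomology of a compact separated subspace through its open neighbourhoods
-/

set_option autoImplicit false
set_option linter.style.haveILetI false
set_option linter.unusedSectionVars false
set_option backward.isDefEq.respectTransparency false

universe u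

open CategoryTheory CategoryTheory.Limits Opposite TopologicalSpace

namespace Groth.Agent.H15Site.PBC

open Groth.Agent.H15Site.DescTop

attribute [local instance 10000] SiteInst.hasSheafifySite SiteInst.hasWeakSheafifySite
  SiteInst.hasExtSite SiteInst.enoughInjSite

variable {X : TopCat.{u}} (A : Set X)

/-- Open neighbourhoods of a subset. -/
abbrev Nb : ObjectProperty (Opens X)ᵒᵖ := fun U => A ⊆ (U.unop : Set X)

instance isFiltered_nb : IsFiltered (Nb A).FullSubcategory := by
  haveI : Nonempty (Nb A).FullSubcategory := ⟨⟨op ⊤, fun _ _ => Opens.mem_top _⟩⟩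
  haveI : IsFilteredOrEmpty (Nb A).FullSubcategory :=
    { cocone_objs := fun U V => ⟨⟨op (U.obj.unop ⊓ V.obj.unop), fun x hx => ⟨U.property hx, V.property hx⟩⟩,
        ObjectProperty.homMk (homOfLE inf_le_left).op, ObjectProperty.homMk (homOfLE inf_le_right).op,
        trivial⟩
      cocone_maps := fun U V f g => ⟨V, 𝟙 _, by
        ext
        exact Subsingleton.elim _ _⟩ }
  exact ⟨⟩

/-- The colimit over neighbourhoods. -/
noncomputable def nbColim : ((Opens X)ᵒᵖ ⥤ AddCommGrpCat.{u}) ⥤ AddCommGrpCat.{u} :=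
  (Functor.whiskeringLeft _ _ AddCommGrpCat.{u}).obj (Nb A).ι ⋙ colim

instance preservesFiniteLimits_nbColim : PreservesFiniteLimits (nbColim A) := by
  unfold nbColim; infer_instance

instance preservesFiniteColimits_nbColim : PreservesFiniteColimits (nbColim A) := by
  unfold nbColim; infer_instance

instance additive_nbColim : (nbColim A).Additive :=
  Functor.additive_of_preserves_binary_products _

variable {Z : TopCat.{u}} (i : Z ⟶ X) (hA : Set.range i = A)

/-- The comparison. -/
noncomputable def nbRest (G : CohTop.Ab X) :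
    (nbColim A).obj G.obj ⟶ ((CohTop.pull i).obj G).obj.obj (op ⊤) :=
  colimit.desc ((Nb A).ι ⋙ G.obj)
    (Cocone.mk _
      { app := fun U => rest i G U.obj.unop (hA.le.trans U.property)
        naturality := fun U V k => by
          refine Eq.trans ?_ (Category.comp_id _).symm
          exact rest_res i G k.hom.unop.le _ _ })

lemma ι_nbRest (G : CohTop.Ab X) (U : (Nb A).FullSubcategory) :
    colimit.ι ((Nb A).ι ⋙ G.obj) U ≫ nbRest A i hA G = rest i G U.obj.unop (hA.le.trans U.property) :=
  colimit.ι_desc _ U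

theorem nbRest_nat {G G' : CohTop.Ab X} (φ : G ⟶ G') :
    (nbColim A).map φ.hom ≫ nbRest A i hA G' =
      nbRest A i hA G ≫ ((CohTop.pull i).map φ).hom.app (op ⊤) := by
  refine colimit.hom_ext fun U => ?_
  show colimit.ι ((Nb A).ι ⋙ G.obj) U ≫ colimMap (Functor.whiskerLeft (Nb A).ι φ.hom) ≫ nbRest A i hA G' = _
  refine (ι_colimMap_assoc (Functor.whiskerLeft (Nb A).ι φ.hom) U _).trans ?_
  refine (congrArg _ (ι_nbRest A i hA G' U)).trans ?_
  refine Eq.trans ?_ (Category.assoc _ _ _)
  refine Eq.trans ?_ (congrArg (· ≫ _) (ι_nbRest A i hA G U).symm)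
  exact rest_nat i φ _ _

theorem bijective_nbRest [CompactSpace Z] (he : Topology.IsEmbedding i)
    (hs : SepIn (Set.range i)) (G : CohTop.Ab X) :
    Function.Bijective (nbRest A i hA G).hom := by
  constructor
  · refine (injective_iff_map_eq_zero _).2 fun a ha => ?_
    obtain ⟨U, s, rfl⟩ := Concrete.colimit_exists_rep ((Nb A).ι ⋙ G.obj) a
    have h0 : (rest i G U.obj.unop (hA.le.trans U.property)).hom s = 0 :=
      (ConcreteCategory.congr_hom (ι_nbRest A i hA G U) s).symm.trans ha
    obtain ⟨W, hW, hW', hs0⟩ := exists_res_eq_zero i G he.isInducing _ _ s h0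
    let W₀ : (Nb A).FullSubcategory := ⟨op W, hA.ge.trans hW'⟩
    let k : U ⟶ W₀ := ObjectProperty.homMk (homOfLE hW).op
    refine (ConcreteCategory.congr_hom (colimit.w ((Nb A).ι ⋙ G.obj) k) s).symm.trans ?_
    exact (congrArg (colimit.ι ((Nb A).ι ⋙ G.obj) W₀) hs0).trans (map_zero _)
  · intro t
    obtain ⟨U, hU, s, hs'⟩ := exists_rest_eq i G he hs t
    let U₀ : (Nb A).FullSubcategory := ⟨op U, hA.ge.trans hU⟩
    exact ⟨colimit.ι ((Nb A).ι ⋙ G.obj) U₀ s,
      (ConcreteCategory.congr_hom (ι_nbRest A i hA G U₀) s).trans hs'⟩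

include hA in
/-- `colim_{U ⊇ A} H^p(U, F) ≅ H^p(Z, F|Z)`. -/
theorem nonempty_nbColim_cohP_iso [CompactSpace Z] (he : Topology.IsEmbedding i)
    (hs : SepIn (Set.range i)) (F : CohTop.Ab X) (p : ℕ) :
    Nonempty ((nbColim A).obj (HigherDirectSite.cohP F p) ≅
      AddCommGrpCat.of (CohTop.H ((CohTop.pull i).obj F) p)) := by
  let sp := sheafToPresheaf (Opens.grothendieckTopology X) AddCommGrpCat.{u}
  haveI := (sheafificationAdjunction (Opens.grothendieckTopology X) AddCommGrpCat.{u}).rightAdjoint_preservesLimits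
  let R := injectiveResolution F
  obtain ⟨e₁⟩ := H16Derived.AcyclicLES.nonempty_rightDerived_iso sp R.cochainComplex 0
    (fun k => inferInstance) R.ι' p
  obtain ⟨e₂⟩ := CmpSite.nonempty_rightDerived_sections_iso p F
  obtain ⟨e₄⟩ := nonempty_H_iso_pull_resolution i F he hs R p
  let K := (sp.mapHomologicalComplex (ComplexShape.up ℤ)).obj R.cochainComplex
  haveI : ∀ G, IsIso (nbRest A i hA G) := fun G =>
    (ConcreteCategory.isIso_iff_bijective _).2 (bijective_nbRest A i hA he hs G)
  let e₃ : ((nbColim A).mapHomologicalComplex (ComplexShape.up ℤ)).obj K ≅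
      ΓCx (((CohTop.pull i).mapHomologicalComplex (ComplexShape.up ℤ)).obj R.cochainComplex) :=
    HomologicalComplex.Hom.isoOfComponents (fun k => asIso (nbRest A i hA (R.cochainComplex.X k)))
      (fun a b _ => (nbRest_nat A i hA (R.cochainComplex.d a b)).symm)
  exact ⟨(nbColim A).mapIso (e₂.symm ≪≫ e₁) ≪≫ ((K.sc (p : ℤ)).mapHomologyIso (nbColim A)).symm ≪≫
    HomologicalComplex.homologyMapIso e₃ (p : ℤ) ≪≫ e₄⟩

end Groth.Agent.H15Site.PBC
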