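import Groth.Agent.H15Site.PBC.Soft

/-!
# Restriction of sheaves to compact separated subspaces
-/

set_option autoImplicit false
set_option linter.style.haveILetI false
set_option linter.unusedSectionVars false
set_option backward.isDefEq.respectTransparency false

universe u

open CategoryTheory CategoryTheory.Limits Opposite TopologicalSpace

namespace Groth.Agent.H15Site.PBC

open Groth.Agent.H15Site.DescTop

attribute [local instance 10000] SiteInst.hasSheafifySite SiteInst.hasWeakSheafifySite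
  SiteInst.hasExtSite SiteInst.enoughInjSite

variable {X Z : TopCat.{u}} (i : Z ⟶ X) (F : CohTop.Ab X)

lemma t2_of_sep (hi : Topology.IsEmbedding i) (hs : SepIn (Set.range i)) : T2Space Z := by
  haveI := hs.t2
  exact T2Space.of_injective_continuous
    (f := fun z => (⟨i z, Set.mem_range_self z⟩ : Set.range i))
    (fun a b h => hi.injective (congrArg Subtype.val h)) (hi.continuous.subtype_mk _)

theorem cmap_injective (hi : Topology.IsInducing i) (z : Z) : Function.Injective (cmap F i z).hom := by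
  haveI := isIso_cmap F i hi z
  exact (ConcreteCategory.bijective_of_isIso (cmap F i z)).1

instance additive_pull {A B : TopCat.{u}} (f : A ⟶ B) : (CohTop.pull f).Additive :=
  haveI := ClosedPushAb.pull_preservesFiniteLimits f
  Functor.additive_of_preserves_binary_products _

/-- A germ family of the restriction comes from an open neighbourhood. -/
theorem exists_extension_pull [CompactSpace Z] (hi : Topology.IsEmbedding i)
    (hs : SepIn (Set.range i)) {A : Set Z} (hA : IsClosed A)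
    (b : ∀ z : A, CohTop.stalk ((CohTop.pull i).obj F) z.1)
    (hb : IsGermFam ((CohTop.pull i).obj F) A b) :
    ∃ (U : Opens X) (hU : ∀ z ∈ A, i z ∈ U) (s : F.obj.obj (op U)),
      ∀ z : A, (cmap F i z.1).hom (gm F (i z.1) (hU z.1 z.2) s) = b z := by
  let G := (CohTop.pull i).obj F
  have hloc : ∀ z : A, ∃ (W : Opens X) (_ : i z.1 ∈ W) (t : F.obj.obj (op W)),
      ∀ (y : A) (hy : i y.1 ∈ W), (cmap F i y.1).hom (gm F (i y.1) hy t) = b y := by
    intro z
    obtain ⟨W', hz, t', ht'⟩ := hb z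
    haveI := isIso_cmap F i hi.isInducing z.1
    obtain ⟨c, hc⟩ := (ConcreteCategory.bijective_of_isIso (cmap F i z.1)).2 (gm G z.1 hz t')
    obtain ⟨U, hzU, s, rfl⟩ := TopCat.Presheaf.exists_germ_eq F.obj c
    let E := eqLocus G ((un F i).hom.app (op U) s) t'
    have hzE : z.1 ∈ E := ⟨hzU, hz, (cmap_gm F i z.1 hzU s).symm.trans hc⟩
    obtain ⟨O, hO, hOE⟩ := hi.isInducing.isOpen_iff.1 E.isOpen
    have mem : ∀ y : Z, i y ∈ O → y ∈ E := fun y hy => hOE.subset hy
    refine ⟨U ⊓ ⟨O, hO⟩, ⟨hzU, hOE.symm.subset hzE⟩, F.obj.map (homOfLE inf_le_left).op s,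
      fun y hy => ?_⟩
    rw [gm_res, cmap_gm]
    obtain ⟨h1, h2, e⟩ := mem y.1 hy.2
    exact e.trans (ht' y h2)
  choose W hW t ht using hloc
  choose zx hzx hzx' using fun x : i '' A => x.2
  have hb₀ : ∀ x : i '' A, x.1 ∈ W ⟨zx x, hzx x⟩ := fun x => by
    have := hW ⟨zx x, hzx x⟩
    rwa [hzx'] at this
  let b₀ : ∀ x : i '' A, CohTop.stalk F x.1 := fun x => gm F x.1 (hb₀ x) (t ⟨zx x, hzx x⟩)
  have key : ∀ (y : A), (cmap F i y.1).hom (b₀ ⟨i y.1, y.1, y.2, rfl⟩) = b y := fun y => by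
    have e : (⟨zx ⟨i y.1, y.1, y.2, rfl⟩, hzx _⟩ : A) = y :=
      Subtype.ext (hi.injective (hzx' _))
    have gen : ∀ (z : A) (_ : z = y) (h : i y.1 ∈ W z),
        (cmap F i y.1).hom (gm F (i y.1) h (t z)) = b y := by
      rintro z rfl h
      exact ht z z h
    exact gen _ e _
  have hfam : IsGermFam F (i '' A) b₀ := by
    rintro ⟨_, z, hz, rfl⟩
    refine ⟨W ⟨z, hz⟩, hW ⟨z, hz⟩, t ⟨z, hz⟩, ?_⟩
    rintro ⟨_, y, hy, rfl⟩ hyW
    exact cmap_injective i F hi.isInducing y ((ht ⟨z, hz⟩ ⟨y, hy⟩ hyW).trans (key ⟨y, hy⟩).symm)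
  obtain ⟨U, hU, s, hs'⟩ := exists_extension F ((hA.isCompact).image hi.continuous)
    (hs.mono (Set.image_subset_range _ _)) b₀ hfam
  exact ⟨U, fun z hz => hU ⟨z, hz, rfl⟩, s, fun z =>
    (congrArg _ (hs' ⟨i z.1, z.1, z.2, rfl⟩)).trans (key z)⟩

/-- The restriction of a flasque sheaf is soft. -/
theorem soft_pull [CompactSpace Z] (hi : Topology.IsEmbedding i) (hs : SepIn (Set.range i))
    (hF : H10Coh.Flasque F) : Soft ((CohTop.pull i).obj F) := by
  intro A hA b hb
  obtain ⟨U, hU, s, hs'⟩ := exists_extension_pull i F hi hs hA b hb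
  obtain ⟨t, ht⟩ := hF (le_top : U ≤ ⊤) s
  refine ⟨(un F i).hom.app (op ⊤) t, fun z => ?_⟩
  refine (cmap_gm F i z.1 (U := ⊤) (Opens.mem_top _) t).symm.trans ?_
  rw [← gm_res F (le_top : U ≤ ⊤) (i z.1) (hU z.1 z.2) t, ht]
  exact hs' z

/-- Restriction of sections on a neighbourhood of the subspace. -/
noncomputable def rest (U : Opens X) (hU : Set.range i ⊆ (U : Set X)) :
    F.obj.obj (op U) ⟶ ((CohTop.pull i).obj F).obj.obj (op ⊤) :=
  (un F i).hom.app (op U) ≫ ((CohTop.pull i).obj F).obj.map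
    (homOfLE (fun z _ => hU (Set.mem_range_self z) : (⊤ : Opens Z) ≤ (Opens.map i).obj U)).op

lemma gm_rest (U : Opens X) (hU : Set.range i ⊆ (U : Set X)) (z : Z) (s : F.obj.obj (op U)) :
    gm ((CohTop.pull i).obj F) (U := ⊤) z (Opens.mem_top _) ((rest i F U hU).hom s) =
      (cmap F i z).hom (gm F (i z) (hU (Set.mem_range_self z)) s) := by
  rw [cmap_gm]
  exact gm_res _ _ z _ _

theorem exists_rest_eq [CompactSpace Z] (hi : Topology.IsEmbedding i) (hs : SepIn (Set.range i))
    (t : ((CohTop.pull i).obj F).obj.obj (op ⊤)) :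
    ∃ (U : Opens X) (hU : Set.range i ⊆ (U : Set X)) (s : F.obj.obj (op U)),
      (rest i F U hU).hom s = t := by
  obtain ⟨U, hU, s, hs'⟩ := exists_extension_pull i F hi hs isClosed_univ
    (fun z => gm _ (U := ⊤) z.1 (Opens.mem_top _) t)
    (fun z => ⟨⊤, Opens.mem_top _, t, fun _ _ => rfl⟩)
  refine ⟨U, fun x ⟨z, hz⟩ => hz ▸ hU z (Set.mem_univ z), s,
    TopCat.Presheaf.section_ext ((CohTop.pull i).obj F : TopCat.Sheaf AddCommGrpCat.{u} Z) ⊤ _ _
      fun z _ => (gm_rest i F U _ z s).trans (hs' ⟨z, Set.mem_univ z⟩)⟩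

theorem exists_res_eq_zero (hi : Topology.IsInducing i) (U : Opens X)
    (hU : Set.range i ⊆ (U : Set X)) (s : F.obj.obj (op U)) (h : (rest i F U hU).hom s = 0) :
    ∃ (V : Opens X) (hVU : V ≤ U), Set.range i ⊆ (V : Set X) ∧ F.obj.map (homOfLE hVU).op s = 0 := by
  refine ⟨U ⊓ eqLocus F s (0 : F.obj.obj (op U)), inf_le_left, ?_, ?_⟩
  · rintro _ ⟨z, rfl⟩
    refine ⟨hU (Set.mem_range_self z), hU (Set.mem_range_self z), hU (Set.mem_range_self z), ?_⟩
    refine cmap_injective i F hi z ((gm_rest i F U hU z s).symm.trans ?_)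
    rw [h]
    exact (map_zero _).trans ((congrArg _ (map_zero _)).trans (map_zero _)).symm
  · refine TopCat.Presheaf.section_ext (F : TopCat.Sheaf AddCommGrpCat.{u} X) _ _ _ fun y hy => ?_
    refine (gm_res F inf_le_left y hy s).trans ?_
    obtain ⟨h1, h2, e⟩ := hy.2
    exact e.trans ((map_zero _).trans (map_zero _).symm)

theorem rest_res {U V : Opens X} (h : V ≤ U) (hU : Set.range i ⊆ (U : Set X))
    (hV : Set.range i ⊆ (V : Set X)) :
    F.obj.map (homOfLE h).op ≫ rest i F V hV = rest i F U hU := by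
  rw [rest, rest, ← Category.assoc, (un F i).hom.naturality, Category.assoc]
  congr 1
  show ((CohTop.pull i).obj F).obj.map _ ≫ _ = _
  rw [← Functor.map_comp]
  rfl

theorem rest_nat {F G : CohTop.Ab X} (φ : F ⟶ G) (U : Opens X) (hU : Set.range i ⊆ (U : Set X)) :
    φ.hom.app (op U) ≫ rest i G U hU = rest i F U hU ≫ ((CohTop.pull i).map φ).hom.app (op ⊤) := by
  have h := congrArg (fun ψ => ψ.hom.app (op U))
    ((TopCat.Sheaf.pullbackPushforwardAdjunction AddCommGrpCat.{u} i).unit.naturality φ)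
  rw [rest, rest, Category.assoc, ← Category.assoc]
  refine (congrArg (· ≫ _) h).trans ?_
  show (_ ≫ ((CohTop.pull i).map φ).hom.app (op ((Opens.map i).obj U))) ≫ _ = _
  rw [Category.assoc, ((CohTop.pull i).map φ).hom.naturality]
  rfl

/-- Cohomology of a restriction through restricted injectives. -/
theorem nonempty_H_iso_pull_resolution [CompactSpace Z] (hi : Topology.IsEmbedding i)
    (hs : SepIn (Set.range i)) (R : InjectiveResolution F) (q : ℕ) :
    Nonempty ((ΓCx (((CohTop.pull i).mapHomologicalComplex (ComplexShape.up ℤ)).obj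
        R.cochainComplex)).homology (q : ℤ) ≅
      AddCommGrpCat.of (CohTop.H ((CohTop.pull i).obj F) q)) := by
  haveI := ClosedPushAb.pull_preservesFiniteLimits i
  haveI := t2_of_sep i hi hs
  haveI : (CohTop.pull i).IsLeftAdjoint :=
    (TopCat.Sheaf.pullbackPushforwardAdjunction AddCommGrpCat.{u} i).isLeftAdjoint
  let ι : (CochainComplex.singleFunctor (CohTop.Ab Z) 0).obj ((CohTop.pull i).obj F) ⟶
      ((CohTop.pull i).mapHomologicalComplex (ComplexShape.up ℤ)).obj R.cochainComplex :=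
    (HomologicalComplex.singleMapHomologicalComplex (CohTop.pull i) (ComplexShape.up ℤ) 0).inv.app F ≫
      ((CohTop.pull i).mapHomologicalComplex (ComplexShape.up ℤ)).map R.ι'
  haveI : QuasiIso (((CohTop.pull i).mapHomologicalComplex (ComplexShape.up ℤ)).map R.ι') :=
    inferInstance
  haveI : QuasiIso ι := quasiIso_comp _ _
  haveI : CochainComplex.IsStrictlyGE
      (((CohTop.pull i).mapHomologicalComplex (ComplexShape.up ℤ)).obj R.cochainComplex) 0 := by
    rw [CochainComplex.isStrictlyGE_iff]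
    exact fun k hk => (CohTop.pull i).map_isZero (CochainComplex.isZero_of_isStrictlyGE R.cochainComplex 0 k hk)
  exact nonempty_H_iso_of_soft_res _ _
    (fun k => soft_pull i (R.cochainComplex.X k) hi hs (H10Coh.flasque_of_injective _)) ι q

end Groth.Agent.H15Site.PBC
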