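import Groth.Agent.H15Site.PBC.Germs
import Groth.Agent.H15Site.DescTop.TopRes
import Groth.Agent.H10Coh.PushAb

/-!
# Soft sheaves on compact Hausdorff spaces are acyclic
-/

set_option autoImplicit false
set_option linter.style.haveILetI false
set_option linter.unusedSectionVars false
set_option backward.isDefEq.respectTransparency false

universe u

open CategoryTheory CategoryTheory.Limits Opposite TopologicalSpace Abelian

namespace Groth.Agent.H15Site.PBC

open Groth.Agent.H15Site.DescTop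

attribute [local instance 10000] SiteInst.hasSheafifySite SiteInst.hasWeakSheafifySite
  SiteInst.hasExtSite SiteInst.enoughInjSite

variable {Z : TopCat.{u}}

/-- Soft sheaves: germ families on closed subsets extend globally. -/
def Soft (G : CohTop.Ab Z) : Prop :=
  ∀ (A : Set Z), IsClosed A → ∀ b : ∀ x : A, CohTop.stalk G x.1, IsGermFam G A b →
    ∃ s : G.obj.obj (op ⊤), ∀ x : A, gm G (U := ⊤) x.1 (Opens.mem_top _) s = b x

lemma sepIn_of_t2 [T2Space Z] (A : Set Z) : SepIn A := fun _ _ _ _ h => t2_separation h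

theorem soft_of_flasque [CompactSpace Z] [T2Space Z] {G : CohTop.Ab Z} (hG : H10Coh.Flasque G) :
    Soft G := fun A hA b hb => by
  obtain ⟨U, hU, s, hs⟩ := exists_extension G hA.isCompact (sepIn_of_t2 A) b hb
  obtain ⟨t, ht⟩ := hG (le_top : U ≤ ⊤) s
  refine ⟨t, fun x => ?_⟩
  rw [← gm_res G (le_top : U ≤ ⊤) x.1 (hU x.2) t, ht]
  exact hs x

/-- The map on stalks. -/
noncomputable def mp {F G : CohTop.Ab Z} (φ : F ⟶ G) (x : Z) :
    CohTop.stalk F x →+ CohTop.stalk G x :=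
  ((TopCat.Presheaf.stalkFunctor AddCommGrpCat.{u} x).map φ.hom).hom

lemma gm_map {F G : CohTop.Ab Z} (φ : F ⟶ G) {U : Opens Z} (x : Z) (hx : x ∈ U) (s : F.obj.obj (op U)) :
    mp φ x (gm F x hx s) = gm G x hx (φ.hom.app (op U) s) :=
  TopCat.Presheaf.stalkFunctor_map_germ_apply U x hx φ.hom s

lemma gm_add {F : CohTop.Ab Z} {U : Opens Z} (x : Z) (hx : x ∈ U) (s t : F.obj.obj (op U)) :
    gm F x hx (s + t) = gm F x hx s + gm F x hx t := map_add _ _ _

lemma gm_sub {F : CohTop.Ab Z} {U : Opens Z} (x : Z) (hx : x ∈ U) (s t : F.obj.obj (op U)) :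
    gm F x hx (s - t) = gm F x hx s - gm F x hx t := map_sub _ _ _

section Exact

variable {S : ShortComplex (CohTop.Ab Z)} (hS : S.ShortExact)
include hS

lemma stk_mono (x : Z) : Function.Injective (mp S.f x) := by
  haveI := hS.mono_f
  have : Mono ((stk x).map S.f) :=
    Functor.map_mono (TopCat.Sheaf.forget AddCommGrpCat.{u} Z ⋙ TopCat.Presheaf.stalkFunctor _ x) S.f
  exact (AddCommGrpCat.mono_iff_injective _).1 this

lemma stk_exact (x : Z) (a : CohTop.stalk S.X₂ x) (ha : (mp S.g x) a = 0) :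
    ∃ c, (mp S.f x) c = a :=
  (ShortComplex.ab_exact_iff _).1
    ((TopCat.Sheaf.exact_iff_stalkFunctor_map_exact S).1 hS.exact x) a ha

lemma mp_mp_zero (x : Z) (z : CohTop.stalk S.X₁ x) : mp S.g x (mp S.f x z) = 0 := by
  obtain ⟨U, hx, c, rfl⟩ := TopCat.Presheaf.exists_germ_eq S.X₁.obj z
  refine ((congrArg _ (gm_map S.f x hx c)).trans (gm_map S.g x hx _)).trans ?_
  have h : S.g.hom.app (op U) (S.f.hom.app (op U) c) = 0 :=
    ConcreteCategory.congr_hom (congrArg (fun φ => φ.hom.app (op U)) S.zero) c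
  rw [h]
  exact map_zero _

lemma local_kernel {U : Opens Z} (d : S.X₂.obj.obj (op U)) {x : Z} (hx : x ∈ U)
    (h : (mp S.g x) (gm S.X₂ x hx d) = 0) :
    ∃ (W : Opens Z) (hW : W ≤ U) (_ : x ∈ W) (c : S.X₁.obj.obj (op W)),
      S.f.hom.app (op W) c = S.X₂.obj.map (homOfLE hW).op d := by
  obtain ⟨c₀, hc₀⟩ := stk_exact hS x _ h
  obtain ⟨V, hxV, c, rfl⟩ := TopCat.Presheaf.exists_germ_eq S.X₁.obj c₀
  obtain ⟨W, hxW, i₁, i₂, e⟩ := TopCat.Presheaf.germ_eq S.X₂.obj x hxV hx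
    (S.f.hom.app (op V) c) d ((gm_map S.f x hxV c).symm.trans hc₀)
  exact ⟨W, i₂.le, hxW, S.X₁.obj.map i₁.op c,
    (ConcreteCategory.congr_hom (S.f.hom.naturality i₁.op) c).trans e⟩

/-- Germ families on a closed set lift along an epimorphism with soft kernel. -/
theorem exists_lift [CompactSpace Z] [T2Space Z] (h₁ : Soft S.X₁) {A : Set Z} (hA : IsClosed A)
    (b : ∀ x : A, CohTop.stalk S.X₃ x.1) (hb : IsGermFam S.X₃ A b) :
    ∃ a : ∀ x : A, CohTop.stalk S.X₂ x.1, IsGermFam S.X₂ A a ∧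
      ∀ x : A, (mp S.g x.1) (a x) = b x := by
  classical
  haveI := hS.epi_g
  let P : Set Z → Prop := fun B => IsClosed B ∧ B ⊆ A ∧
    ∃ a : ∀ x : Z, CohTop.stalk S.X₂ x, IsGermFam S.X₂ B (fun x => a x.1) ∧
      ∀ (x : Z) (_ : x ∈ B) (hx : x ∈ A), (mp S.g x) (a x) = b ⟨x, hx⟩
  have hloc : ∀ x : A, ∃ (W : Opens Z) (_ : x.1 ∈ W) (t : S.X₂.obj.obj (op W)),
      ∀ (y : A) (hy : y.1 ∈ W), (mp S.g y.1) (gm S.X₂ y.1 hy t) = b y := by
    intro x
    obtain ⟨W, hxW, t, ht⟩ := hb x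
    obtain ⟨V, hV, hxV, s, hs⟩ := H10Coh.locally_surjective_of_epi S.g W t x.1 hxW
    refine ⟨V, hxV, s, fun y hy => ?_⟩
    rw [gm_map, hs, gm_res]
    exact ht y (hV hy)
  choose W hW t ht using hloc
  obtain ⟨J, K, hK, hcov⟩ := exists_compact_refinement hA.isCompact (sepIn_of_t2 A) W hW
  have union : ∀ B C, P B → P C → P (B ∪ C) := by
    rintro B C ⟨hB, hBA, a, hag, ha⟩ ⟨hC, hCA, a', hag', ha'⟩
    have hker : ∀ x : (B ∩ C : Set Z), (mp S.g x.1) (a x.1 - a' x.1) = 0 := fun x => by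
      rw [map_sub, sub_eq_zero]
      exact (ha x.1 x.2.1 (hBA x.2.1)).trans (ha' x.1 x.2.2 (hBA x.2.1)).symm
    choose c hc using fun x : (B ∩ C : Set Z) => stk_exact hS x.1 _ (hker x)
    have hcg : IsGermFam S.X₁ (B ∩ C) c := by
      intro x
      obtain ⟨W₁, hx₁, t₁, ht₁⟩ := hag ⟨x.1, x.2.1⟩
      obtain ⟨W₂, hx₂, t₂, ht₂⟩ := hag' ⟨x.1, x.2.2⟩
      let d : S.X₂.obj.obj (op (W₁ ⊓ W₂)) :=
        S.X₂.obj.map (homOfLE inf_le_left).op t₁ - S.X₂.obj.map (homOfLE inf_le_right).op t₂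
      have hd : ∀ (y : (B ∩ C : Set Z)) (hy : y.1 ∈ W₁ ⊓ W₂),
          gm S.X₂ y.1 hy d = a y.1 - a' y.1 := fun y hy => by
        refine (gm_sub _ _ _ _).trans ?_
        exact congrArg₂ _ ((gm_res S.X₂ inf_le_left y.1 hy t₁).trans (ht₁ ⟨y.1, y.2.1⟩ hy.1))
          ((gm_res S.X₂ inf_le_right y.1 hy t₂).trans (ht₂ ⟨y.1, y.2.2⟩ hy.2))
      obtain ⟨W₃, hW₃, hx₃, e, he⟩ := local_kernel hS d (x := x.1) ⟨hx₁, hx₂⟩
        ((congrArg _ (hd x ⟨hx₁, hx₂⟩)).trans (hker x))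
      refine ⟨W₃, hx₃, e, fun y hy => stk_mono hS y.1 ?_⟩
      rw [gm_map, he, gm_res, hd, hc]
    obtain ⟨e, he⟩ := h₁ (B ∩ C) (hB.inter hC) c hcg
    let fe : ∀ x : Z, CohTop.stalk S.X₂ x :=
      fun x => (mp S.f x) (gm S.X₁ (U := ⊤) x (Opens.mem_top _) e)
    have hagree : ∀ x, x ∈ B → x ∈ C → a' x + fe x = a x := fun x hxB hxC => by
      show a' x + (mp S.f x) (gm S.X₁ (U := ⊤) x _ e) = a x
      rw [he ⟨x, hxB, hxC⟩]
      refine (congrArg (a' x + ·) (hc ⟨x, hxB, hxC⟩)).trans ?_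
      abel
    refine ⟨hB.union hC, Set.union_subset hBA hCA, fun x => if x ∈ B then a x else a' x + fe x, ?_, ?_⟩
    · intro x
      have sec₂ : ∀ (hxC : x.1 ∈ C), ∃ (V : Opens Z) (_ : x.1 ∈ V) (r : S.X₂.obj.obj (op V)),
          ∀ y : Z, y ∈ C → ∀ hy : y ∈ V, gm S.X₂ y hy r = a' y + fe y := by
        intro hxC
        obtain ⟨W₂, hx₂, t₂, ht₂⟩ := hag' ⟨x.1, hxC⟩
        refine ⟨W₂, hx₂, t₂ + S.f.hom.app (op W₂) (S.X₁.obj.map (homOfLE le_top).op e),
          fun y hyC hy => ?_⟩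
        refine (gm_add _ _ _ _).trans ?_
        refine congrArg₂ _ (ht₂ ⟨y, hyC⟩ hy) ?_
        exact (gm_map S.f y hy _).symm.trans (congrArg _ (gm_res S.X₁ le_top y hy e))
      by_cases hxB : x.1 ∈ B
      · obtain ⟨W₁, hx₁, t₁, ht₁⟩ := hag ⟨x.1, hxB⟩
        by_cases hxC : x.1 ∈ C
        · obtain ⟨V, hxV, r, hr⟩ := sec₂ hxC
          have hE : x.1 ∈ eqLocus S.X₂ t₁ r :=
            ⟨hx₁, hxV, (ht₁ ⟨x.1, hxB⟩ hx₁).trans ((hr x.1 hxC hxV).trans (hagree x.1 hxB hxC)).symm⟩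
          refine ⟨W₁ ⊓ eqLocus S.X₂ t₁ r, ⟨hx₁, hE⟩, S.X₂.obj.map (homOfLE inf_le_left).op t₁,
            fun y hy => ?_⟩
          rw [gm_res]
          show _ = if y.1 ∈ B then a y.1 else a' y.1 + fe y.1
          by_cases hyB : y.1 ∈ B
          · rw [if_pos hyB]; exact ht₁ ⟨y.1, hyB⟩ hy.1
          · rw [if_neg hyB]
            obtain ⟨h1, h2, e2⟩ := hy.2
            exact e2.trans (hr y.1 (y.2.resolve_left hyB) h2)
        · refine ⟨W₁ ⊓ ⟨Cᶜ, hC.isOpen_compl⟩, ⟨hx₁, hxC⟩, S.X₂.obj.map (homOfLE inf_le_left).op t₁,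
            fun y hy => ?_⟩
          rw [gm_res]
          have hyB : y.1 ∈ B := y.2.resolve_right hy.2
          show _ = if y.1 ∈ B then a y.1 else a' y.1 + fe y.1
          rw [if_pos hyB]; exact ht₁ ⟨y.1, hyB⟩ hy.1
      · obtain ⟨V, hxV, r, hr⟩ := sec₂ (x.2.resolve_left hxB)
        refine ⟨V ⊓ ⟨Bᶜ, hB.isOpen_compl⟩, ⟨hxV, hxB⟩, S.X₂.obj.map (homOfLE inf_le_left).op r,
          fun y hy => ?_⟩
        rw [gm_res]
        show _ = if y.1 ∈ B then a y.1 else a' y.1 + fe y.1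
        rw [if_neg hy.2]
        exact hr y.1 (y.2.resolve_left hy.2) hy.1
    · intro x hx hxA
      show mp S.g x (if x ∈ B then a x else a' x + fe x) = _
      by_cases hxB : x ∈ B
      · rw [if_pos hxB]; exact ha x hxB hxA
      · rw [if_neg hxB, map_add, ha' x (hx.resolve_left hxB) hxA]
        have h0 : (mp S.g x) (fe x) = 0 := mp_mp_zero hS x _
        rw [h0, add_zero]
  have base : ∀ i : A, P (K i) := fun i => by
    refine ⟨(hK i).1.isClosed, (hK i).2.1,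
      fun x => if hx : x ∈ W i then gm S.X₂ x hx (t i) else 0, fun x => ?_, fun x hx hxA => ?_⟩
    · refine ⟨W i, (hK i).2.2 x.2, t i, fun y hy => ?_⟩
      show _ = dite _ _ _
      rw [dif_pos hy]
    · show mp S.g x (dite (x ∈ W i) _ _) = _
      rw [dif_pos (show x ∈ W i from (hK i).2.2 hx)]
      exact ht i ⟨x, hxA⟩ _
  have hP : ∀ J' : Finset A, P (⋃ j ∈ J', K j) := by
    intro J'
    induction J' using Finset.induction with
    | empty =>
      refine ⟨by simp, by simp, fun _ => 0, fun x => absurd x.2 (by simp), fun x hx => absurd hx (by simp)⟩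
    | insert j J' _ ih =>
      rw [Finset.set_biUnion_insert]
      exact union _ _ (base j) ih
  obtain ⟨-, hsub, a, hag, ha⟩ := hP J
  refine ⟨fun x => a x.1, fun x => ?_, fun x => ha x.1 (hcov x.2) x.2⟩
  obtain ⟨V, hxV, s, hs⟩ := hag ⟨x.1, hcov x.2⟩
  exact ⟨V, hxV, s, fun y hy => hs ⟨y.1, hcov y.2⟩ hy⟩

theorem surjective_top [CompactSpace Z] [T2Space Z] (h₁ : Soft S.X₁) :
    Function.Surjective (S.g.hom.app (op ⊤)) := by
  intro t
  obtain ⟨a, hag, ha⟩ := exists_lift hS h₁ isClosed_univ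
    (fun x => gm S.X₃ (U := ⊤) x.1 (Opens.mem_top _) t)
    (fun x => ⟨⊤, Opens.mem_top _, t, fun y hy => rfl⟩)
  obtain ⟨U, hU, s, hs⟩ := exists_extension S.X₂ isCompact_univ (sepIn_of_t2 Set.univ) a hag
  have hU' : U = ⊤ := eq_top_iff.2 fun x _ => hU (Set.mem_univ x)
  subst hU'
  refine ⟨s, TopCat.Presheaf.section_ext (S.X₃ : TopCat.Sheaf AddCommGrpCat.{u} Z) ⊤ _ _ fun x hx => ?_⟩
  refine (gm_map S.g x hx s).symm.trans ?_
  exact (congrArg _ (hs ⟨x, Set.mem_univ x⟩)).trans (ha ⟨x, Set.mem_univ x⟩)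

theorem soft_X₃ [CompactSpace Z] [T2Space Z] (h₁ : Soft S.X₁) (h₂ : Soft S.X₂) : Soft S.X₃ :=
  fun A hA b hb => by
    obtain ⟨a, hag, ha⟩ := exists_lift hS h₁ hA b hb
    obtain ⟨s, hs⟩ := h₂ A hA a hag
    refine ⟨S.g.hom.app (op ⊤) s, fun x => ?_⟩
    rw [← gm_map, hs, ha]

end Exact

/-- Soft sheaves on compact Hausdorff spaces have no cohomology. -/
theorem subsingleton_H_of_soft [CompactSpace Z] [T2Space Z] {G : CohTop.Ab Z} (hG : Soft G) (n : ℕ) :
    Subsingleton (H10Coh.Hn G (n + 1) ⊤) := by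
  have : Subsingleton (Ext.{u} (H10Coh.Zsh (⊤ : Opens Z)) (H10Coh.injSeq G).X₂ (n + 1)) :=
    subsingleton_of_forall_eq 0 fun x => Ext.eq_zero_of_injective x
  induction n generalizing G with
  | zero =>
    exact H10Coh.subsingleton_ext_one (H10Coh.injSeq_shortExact G)
      (H10Coh.surjective_hom_of_surjective_sections _ ⊤ (surjective_top (H10Coh.injSeq_shortExact G) hG))
  | succ n ih =>
    exact H10Coh.subsingleton_ext_X₁ (H10Coh.injSeq_shortExact G)
      (ih (soft_X₃ (H10Coh.injSeq_shortExact G) hG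
        (soft_of_flasque (H10Coh.flasque_of_injective _)))
        (subsingleton_of_forall_eq 0 fun x => Ext.eq_zero_of_injective x))


attribute [local instance] HasDerivedCategory.standard

theorem nonempty_rightDerived_Γ_iso {T : TopCat.{u}} (F : CohTop.Ab T) (q : ℕ) :
    Nonempty (((PullCoh.Γ T).rightDerived q).obj F ≅ AddCommGrpCat.of (CohTop.H F q)) := by
  haveI := (sheafificationAdjunction (Opens.grothendieckTopology T) AddCommGrpCat.{u}).rightAdjoint_preservesLimits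
  let R := injectiveResolution F
  haveI : CochainComplex.IsKInjective R.cochainComplex := CochainComplex.isKInjective_of_injective _ 0
  obtain ⟨e₁⟩ := H16Derived.AcyclicLES.nonempty_rightDerived_iso (PullCoh.Γ T) R.cochainComplex 0
    (fun k => inferInstance) R.ι' q
  obtain ⟨e₂⟩ := DescTop.nonempty_H_iso_of_flasque_res F R.cochainComplex
    (fun k => H10Coh.flasque_of_injective _) R.ι' q
  exact ⟨e₁ ≪≫ e₂⟩

theorem isAcyclic_Γ_of_soft [CompactSpace Z] [T2Space Z] {G : CohTop.Ab Z} (hG : Soft G) :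
    H16Derived.AcyclicLES.IsAcyclic (PullCoh.Γ Z) G := by
  intro j hj
  obtain ⟨m, rfl⟩ : ∃ m, j = m + 1 := ⟨j - 1, by omega⟩
  obtain ⟨e⟩ := nonempty_rightDerived_Γ_iso G (m + 1)
  haveI := subsingleton_H_of_soft hG m
  haveI : Subsingleton (CohTop.H G (m + 1)) := (H10Coh.topEquiv G (m + 1)).toEquiv.subsingleton
  exact IsZero.of_iso (AddCommGrpCat.isZero_of_subsingleton _) e

/-- Soft resolutions compute cohomology. -/
theorem nonempty_H_iso_of_soft_res [CompactSpace Z] [T2Space Z] (G : CohTop.Ab Z)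
    (L : CochainComplex (CohTop.Ab Z) ℤ) [L.IsStrictlyGE 0] (hL : ∀ k, Soft (L.X k))
    (ι : (CochainComplex.singleFunctor (CohTop.Ab Z) 0).obj G ⟶ L) [QuasiIso ι] (q : ℕ) :
    Nonempty ((ΓCx L).homology (q : ℤ) ≅ AddCommGrpCat.of (CohTop.H G q)) := by
  let R := injectiveResolution G
  let I := R.cochainComplex
  haveI : I.IsKInjective := CochainComplex.isKInjective_of_injective _ 0
  let t : DerivedCategory.Q.obj L ⟶ DerivedCategory.Q.obj I :=
    inv (DerivedCategory.Q.map ι) ≫ DerivedCategory.Q.map R.ι'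
  let t' := ((DerivedCategory.quotientCompQhIso (CohTop.Ab Z)).hom.app L) ≫ t ≫
    ((DerivedCategory.quotientCompQhIso (CohTop.Ab Z)).inv.app I)
  obtain ⟨g', hg'⟩ := (CochainComplex.IsKInjective.Qh_map_bijective _ I).2 t'
  obtain ⟨g, rfl⟩ := (HomotopyCategory.quotient _ _).map_surjective g'
  haveI : IsIso (DerivedCategory.Q.map g) := by
    refine (NatIso.isIso_map_iff (DerivedCategory.quotientCompQhIso (CohTop.Ab Z)) g).1 ?_
    show IsIso ((DerivedCategory.Qh (C := CohTop.Ab Z)).map ((HomotopyCategory.quotient _ _).map g))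
    rw [hg']
    infer_instance
  haveI : QuasiIso g := (DerivedCategory.isIso_Q_map_iff_quasiIso _ _).1 inferInstance
  haveI := (sheafificationAdjunction (Opens.grothendieckTopology Z) AddCommGrpCat.{u}).rightAdjoint_preservesLimits
  have hq := H16Derived.AcyclicLES.quasiIso_map (PullCoh.Γ Z) g 0
    (fun k => isAcyclic_Γ_of_soft (hL k))
    (fun k => H16Derived.AcyclicLES.isAcyclic_of_injective (PullCoh.Γ Z) (I.X k))
  obtain ⟨e⟩ := DescTop.nonempty_H_iso_of_flasque_res G I (fun k => H10Coh.flasque_of_injective _) R.ι' q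
  exact ⟨asIso (HomologicalComplex.homologyMap
    (((PullCoh.Γ Z).mapHomologicalComplex (ComplexShape.up ℤ)).map g) (q : ℤ)) ≪≫ e⟩

end Groth.Agent.H15Site.PBC
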