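import Groth.Agent.H15Site.PBC.SpecNhds

/-!
# Cohomology of a generalization-closed quasi-compact subspace through its compact neighbourhoods
-/

set_option autoImplicit false
set_option linter.style.haveILetI false
set_option linter.unusedSectionVars false
set_option backward.isDefEq.respectTransparency false

universe u

open CategoryTheory CategoryTheory.Limits Opposite TopologicalSpace Abelian

namespace Groth.Agent.H15Site.PBC

open Groth.Agent.H15Site.DescTop

attribute [local instance 10000] SiteInst.hasSheafifySite SiteInst.hasWeakSheafifySite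
  SiteInst.hasExtSite SiteInst.enoughInjSite
attribute [local instance] HasDerivedCategory.standard

variable {X Z : TopCat.{u}}

section Compact

/-- A compact set has a compact open neighbourhood inside every neighbourhood. -/
theorem exists_compactOpen_between {Y : Type u} [TopologicalSpace Y] [PrespectralSpace Y] {K V : Set Y}
    (hK : IsCompact K) (hV : IsOpen V) (hKV : K ⊆ V) :
    ∃ U : Set Y, K ⊆ U ∧ U ⊆ V ∧ IsOpen U ∧ IsCompact U := by
  choose U hU hxU hUV using fun x : K =>
    (PrespectralSpace.isTopologicalBasis (X := Y)).exists_subset_of_mem_open (hKV x.2) hV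
  obtain ⟨t, ht⟩ := hK.elim_finite_subcover U (fun x => (hU x).1) fun x hx => Set.mem_iUnion.2 ⟨⟨x, hx⟩, hxU _⟩
  exact ⟨⋃ x ∈ t, U x, ht, Set.iUnion₂_subset fun x _ => hUV x, isOpen_biUnion fun x _ => (hU x).1,
    t.finite_toSet.isCompact_biUnion fun x _ => (hU x).2⟩

theorem isCompact_iInf_fin {Y : Type u} [TopologicalSpace Y] [QuasiSeparatedSpace Y] {p : ℕ}
    (U : Fin (p + 1) → Opens Y) (hU : ∀ k, IsCompact (U k : Set Y)) :
    IsCompact ((iInf U : Opens Y) : Set Y) := by
  induction p with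
  | zero =>
    have : iInf U = U 0 := le_antisymm (iInf_le _ _) (le_iInf fun k => (congrArg U (Fin.fin_one_eq_zero k)).ge)
    rw [this]; exact hU 0
  | succ p ih =>
    have : iInf U = U 0 ⊓ ⨅ k : Fin (p + 1), U k.succ :=
      le_antisymm (le_inf (iInf_le _ _) (le_iInf fun k => iInf_le _ _))
        (le_iInf fun k => Fin.cases inf_le_left (fun j => inf_le_right.trans (iInf_le _ j)) k)
    rw [this, Opens.coe_inf]
    exact (hU 0).inter_of_isOpen (ih _ fun k => hU _) (U 0).isOpen (Opens.isOpen _)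

theorem exists_finite_compact_refinement {Y : Type u} [TopologicalSpace Y] [PrespectralSpace Y]
    {U : Opens Y} (hU : IsCompact (U : Set Y)) {κ : Type u} (W : κ → Opens Y) (hW : iSup W = U) :
    ∃ (ι : Type u) (V : ι → Opens Y), (Finite ι ∧ ∀ k, IsCompact (V k : Set Y)) ∧ iSup V = U ∧
      ∀ i, ∃ k, V i ≤ W k := by
  have hmem : ∀ x : U, ∃ k, x.1 ∈ W k := fun x => Opens.mem_iSup.1 (hW.ge x.2)
  choose k hk using hmem
  choose S hS hxS hSW using fun x : U =>
    (PrespectralSpace.isTopologicalBasis (X := Y)).exists_subset_of_mem_open (hk x) (W (k x)).isOpen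
  obtain ⟨t, ht⟩ := hU.elim_finite_subcover S (fun x => (hS x).1) fun x hx => Set.mem_iUnion.2 ⟨⟨x, hx⟩, hxS _⟩
  refine ⟨t, fun x => ⟨S x.1, (hS _).1⟩, ⟨inferInstance, fun x => (hS _).2⟩, le_antisymm
    (iSup_le fun x y hy => hW.le (Opens.mem_iSup.2 ⟨_, hSW _ hy⟩)) fun y hy => ?_, fun x => ⟨_, hSW x.1⟩⟩
  obtain ⟨x, hx, hyx⟩ := Set.mem_iUnion₂.1 (ht hy)
  exact Opens.mem_iSup.2 ⟨⟨x, hx⟩, hyx⟩

variable [SpectralSpace X]

theorem isCompact_inter_of_genIn {A U : Set X} (hA : GenIn A) (hU : IsOpen U) (hUc : IsCompact U) :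
    IsCompact (A ∩ U) := by
  have h1 : A = {x : X | ∃ e ∈ A, x ⤳ e} := Set.ext fun x =>
    ⟨fun hx => ⟨x, hx, specializes_rfl⟩, fun ⟨e, he, hxe⟩ => hA.2 hxe he⟩
  refine H28Top.isCompact_of_isClosed_constr ?_
  rw [h1]
  exact @IsClosed.inter X _ _ (constructibleTopology X) (H28Top.isClosed_constr_generalization hA.1)
    (H28Top.isClosed_constr_of_compactOpen hU hUc)

theorem exists_compactOpen_of_compactOpen (i : Z ⟶ X) (hi : Topology.IsEmbedding i)
    (hA : GenIn (Set.range i)) {U : Set Z} (hU : IsOpen U) (hUc : IsCompact U) :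
    ∃ U' : Set X, IsOpen U' ∧ IsCompact U' ∧ U = i ⁻¹' U' := by
  obtain ⟨O, hO, rfl⟩ := hi.isInducing.isOpen_iff.1 hU
  obtain ⟨U', h1, h2, h3, h4⟩ := exists_compactOpen_between (hUc.image hi.continuous) hO
    (Set.image_preimage_subset _ _)
  exact ⟨U', h3, h4, Set.Subset.antisymm (fun z hz => h1 ⟨z, hz, rfl⟩) (Set.preimage_mono h2)⟩

end Compact

/-- Resolutions by objects acyclic for global sections compute cohomology. -/
theorem nonempty_H_iso_of_acyclic_res (G : CohTop.Ab Z)
    (L : CochainComplex (CohTop.Ab Z) ℤ) [L.IsStrictlyGE 0] (hL : ∀ k, H16Derived.AcyclicLES.IsAcyclic (PullCoh.Γ Z) (L.X k))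
    (ι : (CochainComplex.singleFunctor (CohTop.Ab Z) 0).obj G ⟶ L) [QuasiIso ι] (q : ℕ) :
    Nonempty ((ΓCx L).homology (q : ℤ) ≅ AddCommGrpCat.of (CohTop.H G q)) := by
  let R := injectiveResolution G
  let I := R.cochainComplex
  haveI : I.IsKInjective := CochainComplex.isKInjective_of_injective _ 0
  let t : DerivedCategory.Q.obj L ⟶ DerivedCategory.Q.obj I :=
    inv (DerivedCategory.Q.map ι) ≫ DerivedCategory.Q.map R.ι'
  let t' := ((DerivedCategory.quotientCompQhIso (CohTop.Ab Z)).hom.app L) ≫ t ≫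
    ((DerivedCategory.quotientCompQhIso (CohTop.Ab Z)).inv.app I)
  obtain ⟨g', hg'⟩ := (CochainComplex.IsKInjective.Qh_map_bijective _ I).2 t'
  obtain ⟨g, rfl⟩ := (HomotopyCategory.quotient _ _).map_surjective g'
  haveI : IsIso (DerivedCategory.Q.map g) := by
    refine (NatIso.isIso_map_iff (DerivedCategory.quotientCompQhIso (CohTop.Ab Z)) g).1 ?_
    show IsIso ((DerivedCategory.Qh (C := CohTop.Ab Z)).map ((HomotopyCategory.quotient _ _).map g))
    rw [hg']
    infer_instance
  haveI : QuasiIso g := (DerivedCategory.isIso_Q_map_iff_quasiIso _ _).1 inferInstance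
  haveI := (sheafificationAdjunction (Opens.grothendieckTopology Z) AddCommGrpCat.{u}).rightAdjoint_preservesLimits
  have hq := H16Derived.AcyclicLES.quasiIso_map (PullCoh.Γ Z) g 0
    hL
    (fun k => H16Derived.AcyclicLES.isAcyclic_of_injective (PullCoh.Γ Z) (I.X k))
  obtain ⟨e⟩ := DescTop.nonempty_H_iso_of_flasque_res G I (fun k => H10Coh.flasque_of_injective _) R.ι' q
  exact ⟨asIso (HomologicalComplex.homologyMap
    (((PullCoh.Γ Z).mapHomologicalComplex (ComplexShape.up ℤ)).map g) (q : ℤ)) ≪≫ e⟩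

section

variable [SpectralSpace X] (i : Z ⟶ X) (hi : Topology.IsEmbedding i) (hA : GenIn (Set.range i))

include hi hA in
theorem prespectralSpace_sub : PrespectralSpace Z := by
  haveI : QuasiSeparatedSpace X := inferInstance
  refine PrespectralSpace.of_isTopologicalBasis
    (B := {s : Set Z | ∃ U : Set X, IsOpen U ∧ IsCompact U ∧ s = i ⁻¹' U}) ?_ ?_
  · refine TopologicalSpace.isTopologicalBasis_of_isOpen_of_nhds
      (fun s ⟨U, hU, _, hs⟩ => hs ▸ hU.preimage hi.continuous) fun z O hz hO => ?_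
    obtain ⟨O', hO', rfl⟩ := hi.isInducing.isOpen_iff.1 hO
    obtain ⟨U, ⟨hU, hUc⟩, hzU, hUO⟩ :=
      (PrespectralSpace.isTopologicalBasis (X := X)).exists_subset_of_mem_open hz hO'
    exact ⟨_, ⟨U, hU, hUc, rfl⟩, hzU, Set.preimage_mono hUO⟩
  · rintro _ ⟨U, hU, hUc, rfl⟩
    exact hi.isCompact_iff.2 (by
      rw [Set.image_preimage_eq_inter_range, Set.inter_comm]
      exact isCompact_inter_of_genIn hA hU hUc)

include hi hA in
theorem quasiSeparatedSpace_sub : QuasiSeparatedSpace Z := by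
  haveI := prespectralSpace_sub i hi hA
  refine ⟨fun U V hU hUc hV hVc => ?_⟩
  obtain ⟨U', hU'o, hU'c, rfl⟩ := exists_compactOpen_of_compactOpen i hi hA hU hUc
  obtain ⟨V', hV'o, hV'c, rfl⟩ := exists_compactOpen_of_compactOpen i hi hA hV hVc
  rw [← Set.preimage_inter, hi.isCompact_iff, Set.image_preimage_eq_inter_range, Set.inter_comm]
  exact isCompact_inter_of_genIn hA (hU'o.inter hV'o) (hU'c.inter_of_isOpen hV'c hU'o hV'o)

include hi hA in
/-- Restrictions of flasque sheaves are acyclic. -/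
theorem isAcyclic_Γ_pull_of_flasque {F : CohTop.Ab X} (hF : H10Coh.Flasque F) :
    H16Derived.AcyclicLES.IsAcyclic (PullCoh.Γ Z) ((CohTop.pull i).obj F) := by
  haveI := prespectralSpace_sub i hi hA
  haveI := quasiSeparatedSpace_sub i hi hA
  intro j hj
  obtain ⟨m, rfl⟩ : ∃ m, j = m + 1 := ⟨j - 1, by omega⟩
  let G := (CohTop.pull i).obj F
  obtain ⟨e⟩ := nonempty_rightDerived_Γ_iso G (m + 1)
  have hcap : ∀ {κ : Type u} (V : κ → Opens Z), (∀ k, IsCompact (V k : Set Z)) →
      ∀ (p : ℕ) (a : Fin (p + 1) → κ), IsCompact ((CechTop.cap V a : Opens Z) : Set Z) :=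
    fun V hV p a => isCompact_iInf_fin (fun k => V (a k)) fun k => hV _
  haveI : Subsingleton (H10Coh.Hn G (m + 1) ⊤) := by
    refine CechLeray.subsingleton_Hn_of_cech (B := {U : Opens Z | IsCompact (U : Set Z)})
      (Cov := fun κ V => Finite κ ∧ ∀ k, IsCompact (V k : Set Z)) ?_ ?_ ?_ ⊤ ?_ m
    · rintro κ V ⟨hκ, hV⟩
      exact ⟨by rw [Set.mem_setOf_eq, Opens.coe_iSup]; exact isCompact_iUnion hV,
        fun p a => isCompact_iInf_fin (fun k => V (a k)) fun k => hV _⟩
    · intro U hU κ W hW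
      exact exists_finite_compact_refinement hU W hW
    · rintro κ V ⟨hκ, hV⟩ p
      refine CechFlasque.isZero_cechH V G (fun n b J => ?_) p
      refine qcFlasque_pull F i hi hA hF _ ?_
      have : (CechTop.cap V b ⊓ CechFlasque.sub V J : Opens Z) = ⨆ k : J, CechTop.cap V b ⊓ V k :=
        inf_iSup_eq _ _
      rw [this, Opens.coe_iSup]
      exact isCompact_iUnion fun k => by
        rw [Opens.coe_inf]
        exact (hcap V hV n b).inter_of_isOpen (hV _) (CechTop.cap V b).isOpen (V k).isOpen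
    · rw [Set.mem_setOf_eq, Opens.coe_top, hi.isCompact_iff, Set.image_univ]
      exact hA.1
  haveI : Subsingleton (CohTop.H G (m + 1)) := (H10Coh.topEquiv G (m + 1)).toEquiv.subsingleton
  exact IsZero.of_iso (AddCommGrpCat.isZero_of_subsingleton _) e

include hi hA in
/-- Cohomology of a restriction through restricted injectives. -/
theorem nonempty_H_iso_pull_resolution_gen (F : CohTop.Ab X) (R : InjectiveResolution F) (p : ℕ) :
    Nonempty ((ΓCx (((CohTop.pull i).mapHomologicalComplex (ComplexShape.up ℤ)).obj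
        R.cochainComplex)).homology (p : ℤ) ≅
      AddCommGrpCat.of (CohTop.H ((CohTop.pull i).obj F) p)) := by
  haveI := ClosedPushAb.pull_preservesFiniteLimits i
  haveI : (CohTop.pull i).IsLeftAdjoint :=
    (TopCat.Sheaf.pullbackPushforwardAdjunction AddCommGrpCat.{u} i).isLeftAdjoint
  let ι : (CochainComplex.singleFunctor (CohTop.Ab Z) 0).obj ((CohTop.pull i).obj F) ⟶
      ((CohTop.pull i).mapHomologicalComplex (ComplexShape.up ℤ)).obj R.cochainComplex :=
    (HomologicalComplex.singleMapHomologicalComplex (CohTop.pull i) (ComplexShape.up ℤ) 0).inv.app F ≫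
      ((CohTop.pull i).mapHomologicalComplex (ComplexShape.up ℤ)).map R.ι'
  haveI : QuasiIso (((CohTop.pull i).mapHomologicalComplex (ComplexShape.up ℤ)).map R.ι') :=
    inferInstance
  haveI : QuasiIso ι := quasiIso_comp _ _
  haveI : CochainComplex.IsStrictlyGE
      (((CohTop.pull i).mapHomologicalComplex (ComplexShape.up ℤ)).obj R.cochainComplex) 0 := by
    rw [CochainComplex.isStrictlyGE_iff]
    exact fun k hk => (CohTop.pull i).map_isZero (CochainComplex.isZero_of_isStrictlyGE R.cochainComplex 0 k hk)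
  obtain ⟨e₄⟩ := nonempty_H_iso_of_acyclic_res _ _
    (fun k => isAcyclic_Γ_pull_of_flasque i hi hA (H10Coh.flasque_of_injective (R.cochainComplex.X k))) ι p
  exact ⟨e₄⟩

end

section Colim

/-- Compact open neighbourhoods of a subset. -/
abbrev QNb (A : Set X) : ObjectProperty (Opens X)ᵒᵖ :=
  fun U => A ⊆ (U.unop : Set X) ∧ IsCompact (U.unop : Set X)

variable [SpectralSpace X]

theorem isFiltered_qnb (A : Set X) : IsFiltered (QNb A).FullSubcategory := by
  haveI : Nonempty (QNb A).FullSubcategory :=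
    ⟨⟨op ⊤, fun _ _ => Opens.mem_top _, by rw [Opens.coe_top]; exact isCompact_univ⟩⟩
  haveI : IsFilteredOrEmpty (QNb A).FullSubcategory :=
    { cocone_objs := fun U V => ⟨⟨op (U.obj.unop ⊓ V.obj.unop),
        fun x hx => ⟨U.property.1 hx, V.property.1 hx⟩,
        U.property.2.inter_of_isOpen V.property.2 U.obj.unop.isOpen V.obj.unop.isOpen⟩,
        ObjectProperty.homMk (homOfLE inf_le_left).op, ObjectProperty.homMk (homOfLE inf_le_right).op,
        trivial⟩
      cocone_maps := fun U V f g => ⟨V, 𝟙 _, by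
        ext
        exact Subsingleton.elim _ _⟩ }
  exact ⟨⟩

attribute [local instance] isFiltered_qnb

/-- The colimit over compact neighbourhoods. -/
noncomputable def qColim (A : Set X) : ((Opens X)ᵒᵖ ⥤ AddCommGrpCat.{u}) ⥤ AddCommGrpCat.{u} :=
  (Functor.whiskeringLeft _ _ AddCommGrpCat.{u}).obj (QNb A).ι ⋙ colim

instance preservesFiniteLimits_qColim (A : Set X) : PreservesFiniteLimits (qColim A) := by
  unfold qColim; infer_instance

instance preservesFiniteColimits_qColim (A : Set X) : PreservesFiniteColimits (qColim A) := by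
  unfold qColim; infer_instance

instance additive_qColim (A : Set X) : (qColim A).Additive :=
  Functor.additive_of_preserves_binary_products _

variable (A : Set X) (i : Z ⟶ X) (hi : Topology.IsEmbedding i) (hA : GenIn (Set.range i))
  (hAZ : ∀ U : Opens X, A ⊆ (U : Set X) ↔ Set.range i ⊆ (U : Set X))

/-- The comparison. -/
noncomputable def qRest (G : CohTop.Ab X) :
    (qColim A).obj G.obj ⟶ ((CohTop.pull i).obj G).obj.obj (op ⊤) :=
  colimit.desc ((QNb A).ι ⋙ G.obj)
    (Cocone.mk _
      { app := fun U => rest i G U.obj.unop ((hAZ _).1 U.property.1)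
        naturality := fun U V k => by
          refine Eq.trans ?_ (Category.comp_id _).symm
          exact rest_res i G k.hom.unop.le _ _ })

lemma ι_qRest (G : CohTop.Ab X) (U : (QNb A).FullSubcategory) :
    colimit.ι ((QNb A).ι ⋙ G.obj) U ≫ qRest A i hAZ G = rest i G U.obj.unop ((hAZ _).1 U.property.1) :=
  colimit.ι_desc _ U

theorem qRest_nat {G G' : CohTop.Ab X} (φ : G ⟶ G') :
    (qColim A).map φ.hom ≫ qRest A i hAZ G' =
      qRest A i hAZ G ≫ ((CohTop.pull i).map φ).hom.app (op ⊤) := by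
  refine colimit.hom_ext fun U => ?_
  show colimit.ι ((QNb A).ι ⋙ G.obj) U ≫ colimMap (Functor.whiskerLeft (QNb A).ι φ.hom) ≫ qRest A i hAZ G' = _
  refine (ι_colimMap_assoc (Functor.whiskerLeft (QNb A).ι φ.hom) U _).trans ?_
  refine (congrArg _ (ι_qRest A i hAZ G' U)).trans ?_
  refine Eq.trans ?_ (Category.assoc _ _ _)
  refine Eq.trans ?_ (congrArg (· ≫ _) (ι_qRest A i hAZ G U).symm)
  exact rest_nat i φ _ _

include hi hA in
theorem bijective_qRest (G : CohTop.Ab X) : Function.Bijective (qRest A i hAZ G).hom := by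
  have shrink : ∀ V : Opens X, Set.range i ⊆ (V : Set X) →
      ∃ U : Opens X, U ≤ V ∧ A ⊆ (U : Set X) ∧ IsCompact (U : Set X) := fun V hV => by
    obtain ⟨U, hU, hU', hUo, hUc⟩ := exists_compactOpen_between hA.1 V.isOpen hV
    exact ⟨⟨U, hUo⟩, hU', (hAZ ⟨U, hUo⟩).2 hU, hUc⟩
  constructor
  · refine (injective_iff_map_eq_zero _).2 fun a ha => ?_
    obtain ⟨U, s, rfl⟩ := Concrete.colimit_exists_rep ((QNb A).ι ⋙ G.obj) a
    have h0 : (rest i G U.obj.unop ((hAZ _).1 U.property.1)).hom s = 0 :=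
      (ConcreteCategory.congr_hom (ι_qRest A i hAZ G U) s).symm.trans ha
    obtain ⟨W, hW, hW', hs0⟩ := exists_res_eq_zero i G hi.isInducing _ _ s h0
    obtain ⟨W', hW'W, hAW, hWc⟩ := shrink W hW'
    let W₀ : (QNb A).FullSubcategory := ⟨op W', hAW, hWc⟩
    let k : U ⟶ W₀ := ObjectProperty.homMk (homOfLE (hW'W.trans hW)).op
    refine (ConcreteCategory.congr_hom (colimit.w ((QNb A).ι ⋙ G.obj) k) s).symm.trans ?_
    have h' : G.obj.map (homOfLE (hW'W.trans hW)).op s = 0 := by
      rw [← homOfLE_comp hW'W hW, op_comp, G.obj.map_comp, CategoryTheory.comp_apply, hs0, map_zero]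
    exact (congrArg (colimit.ι ((QNb A).ι ⋙ G.obj) W₀) h').trans (map_zero _)
  · intro t
    obtain ⟨U, hU, s, hs'⟩ := exists_rest_eq_gen G i hi hA t
    obtain ⟨U', hU'U, hAU, hUc⟩ := shrink U hU
    let U₀ : (QNb A).FullSubcategory := ⟨op U', hAU, hUc⟩
    refine ⟨colimit.ι ((QNb A).ι ⋙ G.obj) U₀ (G.obj.map (homOfLE hU'U).op s), ?_⟩
    refine (ConcreteCategory.congr_hom (ι_qRest A i hAZ G U₀) _).trans ?_
    exact (ConcreteCategory.congr_hom (rest_res i G hU'U hU ((hAZ _).1 hAU)) s).trans hs'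

include hi hA hAZ in
/-- `colim_{U ⊇ A compact} H^p(U, F) ≅ H^p(Z, F|Z)`. -/
theorem nonempty_qColim_cohP_iso (F : CohTop.Ab X) (p : ℕ) :
    Nonempty ((qColim A).obj (HigherDirectSite.cohP F p) ≅
      AddCommGrpCat.of (CohTop.H ((CohTop.pull i).obj F) p)) := by
  let sp := sheafToPresheaf (Opens.grothendieckTopology X) AddCommGrpCat.{u}
  haveI := (sheafificationAdjunction (Opens.grothendieckTopology X) AddCommGrpCat.{u}).rightAdjoint_preservesLimits
  let R := injectiveResolution F
  obtain ⟨e₁⟩ := H16Derived.AcyclicLES.nonempty_rightDerived_iso sp R.cochainComplex 0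
    (fun k => inferInstance) R.ι' p
  obtain ⟨e₂⟩ := CmpSite.nonempty_rightDerived_sections_iso p F
  obtain ⟨e₄⟩ := nonempty_H_iso_pull_resolution_gen i hi hA F R p
  let K := (sp.mapHomologicalComplex (ComplexShape.up ℤ)).obj R.cochainComplex
  haveI : ∀ G, IsIso (qRest A i hAZ G) := fun G =>
    (ConcreteCategory.isIso_iff_bijective _).2 (bijective_qRest A i hi hA hAZ G)
  let e₃ : ((qColim A).mapHomologicalComplex (ComplexShape.up ℤ)).obj K ≅
      ΓCx (((CohTop.pull i).mapHomologicalComplex (ComplexShape.up ℤ)).obj R.cochainComplex) :=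
    HomologicalComplex.Hom.isoOfComponents (fun k => asIso (qRest A i hAZ (R.cochainComplex.X k)))
      (fun a b _ => (qRest_nat A i hAZ (R.cochainComplex.d a b)).symm)
  exact ⟨(qColim A).mapIso (e₂.symm ≪≫ e₁) ≪≫ ((K.sc (p : ℤ)).mapHomologyIso (qColim A)).symm ≪≫
    HomologicalComplex.homologyMapIso e₃ (p : ℤ) ≪≫ e₄⟩

end Colim

end Groth.Agent.H15Site.PBC
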