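import Groth.Agent.H15Site.PBC.Nhds
import Groth.Agent.H28Top.Spectral
import Groth.Agent.H15Site.CechFlasque
import Groth.Agent.H15Site.CechLeray

/-!
# Cohomology of generalization-closed quasi-compact subspaces of spectral spaces
-/

set_option autoImplicit false
set_option linter.style.haveILetI false
set_option linter.unusedSectionVars false
set_option backward.isDefEq.respectTransparency false

universe u

open CategoryTheory CategoryTheory.Limits Opposite TopologicalSpace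

namespace Groth.Agent.H15Site.PBC

open Groth.Agent.H15Site.DescTop

attribute [local instance 10000] SiteInst.hasSheafifySite SiteInst.hasWeakSheafifySite
  SiteInst.hasExtSite SiteInst.enoughInjSite

variable {X : TopCat.{u}}

/-- Quasi-compact subsets stable under generalization. -/
def GenIn (A : Set X) : Prop := IsCompact A ∧ StableUnderGeneralization A

lemma genIn_generalization {E : Set X} (hE : IsCompact E) : GenIn {x : X | ∃ e ∈ E, x ⤳ e} := by
  refine ⟨isCompact_of_finite_subcover fun {ι} U hU hcov => ?_,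
    fun x y hyx ⟨e, he, hxe⟩ => ⟨e, he, hyx.trans hxe⟩⟩
  obtain ⟨t, ht⟩ := hE.elim_finite_subcover U hU fun e he => hcov ⟨e, he, specializes_rfl⟩
  refine ⟨t, ?_⟩
  rintro x ⟨e, he, hxe⟩
  exact hxe.mem_open (isOpen_biUnion fun i _ => hU i) (ht he)

/-- Compactness of the constructible topology, for families of compact opens. -/
theorem exists_finite_inter_subset {Y : Type u} [TopologicalSpace Y] [SpectralSpace Y] {ι : Type*}
    (U : ι → Set Y) (hU : ∀ i, IsOpen (U i)) (hU' : ∀ i, IsCompact (U i)) {V D : Set Y} (hVo : IsOpen V)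
    (hV : IsCompact V) (hD : IsOpen D) (h : V ∩ ⋂ i, U i ⊆ D) :
    ∃ t : Finset ι, V ∩ ⋂ i ∈ t, U i ⊆ D := by
  have hcs := H28Top.compactSpace_constr Y
  have hcV := H28Top.isClosed_constr_of_compactOpen hVo hV
  have hcD := H28Top.isClosed_constr_of_isClosed hD.isClosed_compl
  have hcU := fun i => H28Top.isClosed_constr_of_compactOpen (hU i) (hU' i)
  letI : TopologicalSpace Y := constructibleTopology Y
  haveI := hcs
  obtain ⟨t, ht⟩ := (hcV.inter hcD).isCompact.elim_finite_subfamily_closed U hcU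
    (Set.eq_empty_iff_forall_notMem.2 fun x hx => hx.1.2 (h ⟨hx.1.1, hx.2⟩))
  exact ⟨t, fun x hx => by_contra fun hn => Set.eq_empty_iff_forall_notMem.1 ht x ⟨⟨hx.1, hn⟩, hx.2⟩⟩

/-- A compact open piece is met inside a given open on a whole neighbourhood. -/
theorem exists_nhd_inter_subset [SpectralSpace X] {A : Set X} (hA : GenIn A) {V D : Opens X}
    (hV : IsCompact (V : Set X)) (h : A ∩ V ⊆ (D : Set X)) :
    ∃ U : Opens X, A ⊆ (U : Set X) ∧ U ⊓ V ≤ D := by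
  let 𝒰 := {U : Opens X // IsCompact (U : Set X) ∧ A ⊆ (U : Set X)}
  have hA' : A = ⋂ U : 𝒰, (U.1 : Set X) := by
    have h1 : A = {x : X | ∃ e ∈ A, x ⤳ e} := Set.ext fun x =>
      ⟨fun hx => ⟨x, hx, specializes_rfl⟩, fun ⟨e, he, hxe⟩ => hA.2 hxe he⟩
    refine h1.trans ((H28Top.generalization_eq_sInter hA.1).trans ?_)
    ext x
    simp only [Set.mem_sInter, Set.mem_iInter]
    exact ⟨fun hx U => hx _ ⟨⟨U.1.isOpen, U.2.1⟩, U.2.2⟩, fun hx U hU => hx ⟨⟨U, hU.1.1⟩, hU.1.2, hU.2⟩⟩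
  obtain ⟨t, ht⟩ := exists_finite_inter_subset (fun U : 𝒰 => (U.1 : Set X)) (fun U => U.1.isOpen)
    (fun U => U.2.1) V.isOpen hV D.isOpen (fun x hx => h ⟨hA'.symm.subset hx.2, hx.1⟩)
  exact ⟨⟨⋂ U ∈ t, (U.1 : Set X), isOpen_biInter_finset fun U _ => U.1.isOpen⟩,
    fun x hx => Set.mem_iInter₂.2 fun U _ => U.2.2 hx, fun x hx => ht ⟨hx.2, hx.1⟩⟩

variable (F : CohTop.Ab X)

/-- **Gluing along a generalization-closed quasi-compact subset.** -/
theorem exists_extension_gen [SpectralSpace X] {A : Set X} (hA : GenIn A)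
    (b : ∀ x : A, CohTop.stalk F x.1) (hb : IsGermFam F A b) :
    ∃ (U : Opens X) (hU : A ⊆ (U : Set X)) (s : F.obj.obj (op U)),
      ∀ x : A, gm F x.1 (hU x.2) s = b x := by
  classical
  choose W hW t ht using hb
  have hWc : ∀ x : A, ∃ V : Opens X, x.1 ∈ V ∧ IsCompact (V : Set X) ∧ V ≤ W x := fun x => by
    obtain ⟨S, ⟨hSo, hSc⟩, hxS, hSW⟩ :=
      (PrespectralSpace.isTopologicalBasis (X := X)).exists_subset_of_mem_open (hW x) (W x).isOpen
    exact ⟨⟨S, hSo⟩, hxS, hSc, hSW⟩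
  choose V₀ hxV hV₀ hV₀W using hWc
  obtain ⟨J, hJ⟩ := hA.1.elim_finite_subcover (fun x : A => (V₀ x : Set X)) (fun x => (V₀ x).isOpen)
    fun x hx => Set.mem_iUnion.2 ⟨⟨x, hx⟩, hxV _⟩
  have key : ∀ p : J × J, ∃ U : Opens X, A ⊆ (U : Set X) ∧
      U ⊓ (V₀ p.1.1 ⊓ V₀ p.2.1) ≤ eqLocus F (t p.1.1) (t p.2.1) := fun p =>
    exists_nhd_inter_subset (V := V₀ p.1.1 ⊓ V₀ p.2.1) hA
      ((hV₀ p.1.1).inter_of_isOpen (hV₀ p.2.1) (V₀ p.1.1).isOpen (V₀ p.2.1).isOpen)
      fun x hx => ⟨hV₀W _ hx.2.1, hV₀W _ hx.2.2,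
        (ht p.1.1 ⟨x, hx.1⟩ _).trans (ht p.2.1 ⟨x, hx.1⟩ _).symm⟩
  choose U hAU hUE using key
  let V : J → Opens X := fun i => V₀ i.1 ⊓ ⟨⋂ p : J × J, (U p : Set X),
    isOpen_iInter_of_finite fun p => (U p).isOpen⟩
  have hAV : A ⊆ ((iSup V : Opens X) : Set X) := fun x hx => by
    obtain ⟨i, hi, hxi⟩ := Set.mem_iUnion₂.1 (hJ hx)
    exact Opens.mem_iSup.2 ⟨⟨i, hi⟩, hxi, Set.mem_iInter.2 fun p => hAU p hx⟩
  let sf : ∀ i : J, F.obj.obj (op (V i)) := fun i =>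
    F.obj.map (homOfLE (inf_le_left.trans (hV₀W i.1))).op (t i.1)
  have hcomp : TopCat.Presheaf.IsCompatible F.obj V sf := fun i j => by
    refine TopCat.Presheaf.section_ext (F : TopCat.Sheaf AddCommGrpCat.{u} X) _ _ _ fun y hy => ?_
    refine (TopCat.Presheaf.germ_res_apply F.obj _ y hy (sf i)).trans
      (Eq.trans ?_ (TopCat.Presheaf.germ_res_apply F.obj _ y hy (sf j)).symm)
    refine (gm_res F _ y hy.1 (t i.1)).trans (Eq.trans ?_ (gm_res F _ y hy.2 (t j.1)).symm)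
    obtain ⟨h1, h2, e⟩ := hUE (i, j) ⟨Set.mem_iInter.1 hy.1.2 (i, j), hy.1.1, hy.2.1⟩
    exact e
  obtain ⟨s, hs', -⟩ := TopCat.Sheaf.existsUnique_gluing (F : TopCat.Sheaf AddCommGrpCat.{u} X) V sf hcomp
  refine ⟨iSup V, hAV, s, fun x => ?_⟩
  obtain ⟨i, hi⟩ := Opens.mem_iSup.1 (hAV x.2)
  refine ((TopCat.Presheaf.germ_res_apply F.obj (Opens.leSupr V i) x.1 hi s).symm.trans ?_)
  refine (congrArg _ (hs' i)).trans ?_
  exact (gm_res F _ x.1 hi (t i.1)).trans (ht i.1 x _)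

section Subspace

variable {Z : TopCat.{u}} (i : Z ⟶ X)

lemma genIn_image (hi : Topology.IsEmbedding i) (hA : GenIn (Set.range i)) (O : Opens Z)
    (hO : IsCompact (O : Set Z)) : GenIn (i '' (O : Set Z)) := by
  refine ⟨hO.image hi.continuous, ?_⟩
  rintro _ y h ⟨z, hz, rfl⟩
  obtain ⟨w, rfl⟩ := hA.2 h (Set.mem_range_self z)
  exact ⟨w, (hi.toIsInducing.specializes_iff.1 h).mem_open O.isOpen hz, rfl⟩

/-- Sections over a compact open of the subspace come from the ambient space. -/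
theorem exists_extension_open [SpectralSpace X] (hi : Topology.IsEmbedding i) (hA : GenIn (Set.range i))
    (O : Opens Z) (hO : IsCompact (O : Set Z)) (t : ((CohTop.pull i).obj F).obj.obj (op O)) :
    ∃ (U : Opens X) (hU : ∀ z ∈ O, i z ∈ U) (s : F.obj.obj (op U)),
      ∀ (z : Z) (hz : z ∈ O), (cmap F i z).hom (gm F (i z) (hU z hz) s) =
        gm ((CohTop.pull i).obj F) z hz t := by
  let G := (CohTop.pull i).obj F
  have hloc : ∀ z : O, ∃ (W : Opens X) (_ : i z.1 ∈ W) (t' : F.obj.obj (op W)),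
      ∀ (y : O) (hy : i y.1 ∈ W), (cmap F i y.1).hom (gm F (i y.1) hy t') = gm G y.1 y.2 t := by
    intro z
    haveI := isIso_cmap F i hi.isInducing z.1
    obtain ⟨c, hc⟩ := (ConcreteCategory.bijective_of_isIso (cmap F i z.1)).2 (gm G z.1 z.2 t)
    obtain ⟨U, hzU, s, rfl⟩ := TopCat.Presheaf.exists_germ_eq F.obj c
    let E := eqLocus G ((un F i).hom.app (op U) s) t
    have hzE : z.1 ∈ E := ⟨hzU, z.2, (cmap_gm F i z.1 hzU s).symm.trans hc⟩
    obtain ⟨O', hO', hOE⟩ := hi.isInducing.isOpen_iff.1 E.isOpen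
    refine ⟨U ⊓ ⟨O', hO'⟩, ⟨hzU, hOE.symm.subset hzE⟩, F.obj.map (homOfLE inf_le_left).op s,
      fun y hy => ?_⟩
    rw [gm_res, cmap_gm]
    obtain ⟨h1, h2, e⟩ := (hOE.subset hy.2 : y.1 ∈ E)
    exact e
  choose W hW t' ht using hloc
  choose zx hzx hzx' using fun x : i '' (O : Set Z) => x.2
  have hb₀ : ∀ x : i '' (O : Set Z), x.1 ∈ W ⟨zx x, hzx x⟩ := fun x => by
    have := hW ⟨zx x, hzx x⟩
    rwa [hzx'] at this
  let b₀ : ∀ x : i '' (O : Set Z), CohTop.stalk F x.1 := fun x =>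
    gm F x.1 (hb₀ x) (t' ⟨zx x, hzx x⟩)
  have key : ∀ (y : O), (cmap F i y.1).hom (b₀ ⟨i y.1, y.1, y.2, rfl⟩) = gm G y.1 y.2 t := fun y => by
    have e : (⟨zx ⟨i y.1, y.1, y.2, rfl⟩, hzx _⟩ : O) = y := Subtype.ext (hi.injective (hzx' _))
    have gen : ∀ (z : O) (_ : z = y) (h : i y.1 ∈ W z),
        (cmap F i y.1).hom (gm F (i y.1) h (t' z)) = gm G y.1 y.2 t := by
      rintro z rfl h
      exact ht z z h
    exact gen _ e _
  have hfam : IsGermFam F (i '' (O : Set Z)) b₀ := by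
    rintro ⟨_, z, hz, rfl⟩
    refine ⟨W ⟨z, hz⟩, hW ⟨z, hz⟩, t' ⟨z, hz⟩, ?_⟩
    rintro ⟨_, y, hy, rfl⟩ hyW
    exact cmap_injective i F hi.isInducing y ((ht ⟨z, hz⟩ ⟨y, hy⟩ hyW).trans (key ⟨y, hy⟩).symm)
  obtain ⟨U, hU, s, hs'⟩ := exists_extension_gen F (genIn_image i hi hA O hO) b₀ hfam
  exact ⟨U, fun z hz => hU ⟨z, hz, rfl⟩, s, fun z hz =>
    (congrArg _ (hs' ⟨i z, z, hz, rfl⟩)).trans (key ⟨z, hz⟩)⟩

/-- Restrictions of flasque sheaves extend sections from compact opens. -/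
theorem qcFlasque_pull [SpectralSpace X] (hi : Topology.IsEmbedding i) (hA : GenIn (Set.range i))
    (hF : H10Coh.Flasque F) {O O' : Opens Z} (h : O ≤ O') (hO : IsCompact (O : Set Z)) :
    Function.Surjective (((CohTop.pull i).obj F).obj.map (homOfLE h).op) := by
  intro t
  obtain ⟨U, hU, s, hs⟩ := exists_extension_open F i hi hA O hO t
  obtain ⟨s', hs'⟩ := hF (le_top : U ≤ ⊤) s
  let G := (CohTop.pull i).obj F
  refine ⟨G.obj.map (homOfLE (le_top : O' ≤ (Opens.map i).obj ⊤)).op ((un F i).hom.app (op ⊤) s'),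
    TopCat.Presheaf.section_ext (G : TopCat.Sheaf AddCommGrpCat.{u} Z) O _ _ fun z hz => ?_⟩
  refine (gm_res G h z hz _).trans ((gm_res G le_top z (h hz) _).trans ?_)
  refine (cmap_gm F i z (U := ⊤) (Opens.mem_top _) s').symm.trans ?_
  refine (congrArg _ ?_).trans (hs z hz)
  rw [← gm_res F (le_top : U ≤ ⊤) (i z) (hU z hz) s', hs']

theorem exists_rest_eq_gen [SpectralSpace X] (hi : Topology.IsEmbedding i) (hA : GenIn (Set.range i))
    (t : ((CohTop.pull i).obj F).obj.obj (op ⊤)) :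
    ∃ (U : Opens X) (hU : Set.range i ⊆ (U : Set X)) (s : F.obj.obj (op U)),
      (rest i F U hU).hom s = t := by
  obtain ⟨U, hU, s, hs'⟩ := exists_extension_open F i hi hA ⊤
    (by rw [Opens.coe_top, hi.isCompact_iff, Set.image_univ]; exact hA.1) t
  refine ⟨U, fun x ⟨z, hz⟩ => hz ▸ hU z (Opens.mem_top _), s,
    TopCat.Presheaf.section_ext ((CohTop.pull i).obj F : TopCat.Sheaf AddCommGrpCat.{u} Z) ⊤ _ _
      fun z hz => (gm_rest i F U _ z s).trans (hs' z hz)⟩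

end Subspace

end Groth.Agent.H15Site.PBC
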