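import Groth.Agent.H15Site.PBC.SpecCoh
import Groth.Agent.H15Site.FlasquePush
import Groth.Agent.H16Derived.AcyclicLES

/-!
# Stalks of higher direct images along spectral maps
-/

set_option autoImplicit false
set_option linter.style.haveILetI false
set_option linter.unusedSectionVars false
set_option backward.isDefEq.respectTransparency false

universe u

open CategoryTheory CategoryTheory.Limits Opposite TopologicalSpace

namespace Groth.Agent.H15Site.PBC

open Groth.Agent.H15Site.DescTop

attribute [local instance 10000] SiteInst.hasSheafifySite SiteInst.hasWeakSheafifySite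
  SiteInst.hasExtSite SiteInst.enoughInjSite

variable {X Y Z : TopCat.{u}} (f : X ⟶ Y) (i : Z ⟶ X) (y : Y) (hi : ∀ z, f (i z) ⤳ y)

include hi in
lemma range_subGen {V : Opens Y} (hV : y ∈ V) : Set.range i ⊆ ((Opens.map f).obj V : Set X) := by
  rintro _ ⟨z, rfl⟩
  show f (i z) ∈ V
  exact (hi z).mem_open V.isOpen hV

/-- From the stalk of the direct image to sections on the fibre. -/
noncomputable def gStkRest (hi : ∀ z, f (i z) ⤳ y) (G : CohTop.Ab X) :
    CohTop.stalk ((CohTop.push f).obj G) y ⟶ ((CohTop.pull i).obj G).obj.obj (op ⊤) :=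
  colimit.desc _
    (Cocone.mk (((CohTop.pull i).obj G).obj.obj (op ⊤))
      { app := fun V => rest i G ((Opens.map f).obj ((OpenNhds.inclusion y).obj V.unop)) (range_subGen f i y hi V.unop.2)
        naturality := fun V V' k => by
          refine Eq.trans ?_ (Category.comp_id _).symm
          exact rest_res i G ((Opens.map f).monotone ((OpenNhds.inclusion y).map k.unop).le) _ _ })

lemma gStkRest_germ (G : CohTop.Ab X) {V : Opens Y} (hV : y ∈ V) :
    TopCat.Presheaf.germ ((CohTop.push f).obj G).obj V y hV ≫ gStkRest f i y hi G =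
      rest i G ((Opens.map f).obj V) (range_subGen f i y hi hV) :=
  colimit.ι_desc _ (op (⟨V, hV⟩ : OpenNhds y))

theorem gStkRest_nat {G G' : CohTop.Ab X} (φ : G ⟶ G') :
    (TopCat.Presheaf.stalkFunctor AddCommGrpCat.{u} y).map ((CohTop.push f).map φ).hom ≫ gStkRest f i y hi G' =
      gStkRest f i y hi G ≫ ((CohTop.pull i).map φ).hom.app (op ⊤) := by
  refine TopCat.Presheaf.stalk_hom_ext _ fun V hV => ?_
  rw [TopCat.Presheaf.stalkFunctor_map_germ_assoc, gStkRest_germ,
    ← Category.assoc (TopCat.Presheaf.germ ((CohTop.push f).obj G).obj V y hV), gStkRest_germ]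
  exact rest_nat i φ _ _

theorem bijective_gStkRest [SpectralSpace X] [SpectralSpace Y] (he : Topology.IsEmbedding i) (hA : GenIn (Set.range i))
    (hf : IsSpectralMap f) (hfib : ∀ x, f x ⤳ y → x ∈ Set.range i) (G : CohTop.Ab X) :
    Function.Bijective (gStkRest f i y hi G).hom := by
  have hcof : ∀ U : Opens X, Set.range i ⊆ (U : Set X) →
      ∃ V : Opens Y, y ∈ V ∧ (Opens.map f).obj V ≤ U := fun U hU => by
    let 𝒱 := {V : Opens Y // y ∈ V ∧ IsCompact (V : Set Y)}
    obtain ⟨t, ht⟩ := exists_finite_inter_subset (fun V : 𝒱 => f ⁻¹' (V.1 : Set Y))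
      (fun V => V.1.isOpen.preimage hf.continuous) (fun V => hf.isCompact_preimage_of_isOpen V.1.isOpen V.2.2)
      (V := Set.univ) isOpen_univ isCompact_univ U.isOpen (fun x hx => hU (hfib x (by
        refine specializes_iff_forall_open.2 fun S hS hy => ?_
        obtain ⟨V, ⟨hVo, hVc⟩, hyV, hVS⟩ :=
          (PrespectralSpace.isTopologicalBasis (X := Y)).exists_subset_of_mem_open hy hS
        exact hVS (Set.mem_iInter.1 hx.2 ⟨⟨V, hVo⟩, hyV, hVc⟩))))
    exact ⟨⟨⋂ V ∈ t, (V.1 : Set Y), isOpen_biInter_finset fun V _ => V.1.isOpen⟩,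
      Set.mem_iInter₂.2 fun V _ => V.2.1,
      fun x hx => ht ⟨Set.mem_univ x, Set.mem_iInter₂.2 fun V hV => Set.mem_iInter₂.1 hx V hV⟩⟩
  constructor
  · refine (injective_iff_map_eq_zero _).2 fun a ha => ?_
    obtain ⟨V, hV, s, rfl⟩ := TopCat.Presheaf.exists_germ_eq ((CohTop.push f).obj G).obj a
    have h0 : (rest i G ((Opens.map f).obj V) (range_subGen f i y hi hV)).hom s = 0 :=
      (ConcreteCategory.congr_hom (gStkRest_germ f i y hi G hV) s).symm.trans ha
    obtain ⟨W, hW, hW', hs0⟩ := exists_res_eq_zero i G he.isInducing _ _ s h0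
    obtain ⟨V', hV', hle⟩ := hcof W hW'
    have hz : ((CohTop.push f).obj G).obj.map (homOfLE (inf_le_left : V ⊓ V' ≤ V)).op s = 0 := by
      have hsub : (Opens.map f).obj (V ⊓ V') ≤ W := fun x hx => hle hx.2
      have h1 : G.obj.map ((homOfLE hW).op ≫ (homOfLE hsub).op) s = 0 :=
        (ConcreteCategory.congr_hom (G.obj.map_comp (homOfLE hW).op (homOfLE hsub).op) s).trans
          ((congrArg (G.obj.map (homOfLE hsub).op) hs0).trans (map_zero _))
      exact h1
    rw [← TopCat.Presheaf.germ_res_apply ((CohTop.push f).obj G).obj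
      (homOfLE (inf_le_left : V ⊓ V' ≤ V)) y ⟨hV, hV'⟩ s, hz]
    exact map_zero _
  · intro t
    obtain ⟨U, hU, s, hs'⟩ := exists_rest_eq_gen G i he hA t
    obtain ⟨V, hV, hle⟩ := hcof U hU
    refine ⟨TopCat.Presheaf.germ ((CohTop.push f).obj G).obj V y hV (G.obj.map (homOfLE hle).op s), ?_⟩
    refine (ConcreteCategory.congr_hom (gStkRest_germ f i y hi G hV) _).trans ?_
    exact (ConcreteCategory.congr_hom (rest_res i G hle hU (range_subGen f i y hi hV)) s).trans hs'

/-- **Proper base change on stalks.** -/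
theorem nonempty_stalk_Rpush_iso_gen [SpectralSpace X] [SpectralSpace Y]
    (he : Topology.IsEmbedding i) (hA : GenIn (Set.range i)) (hf : IsSpectralMap f)
    (hfib : ∀ x, f x ⤳ y → x ∈ Set.range i)
    (hi : ∀ z, f (i z) ⤳ y) (F : CohTop.Ab X) (p : ℕ) :
    Nonempty (CohTop.stalk ((CohTop.Rpush f p).obj F) y ≅
      AddCommGrpCat.of (CohTop.H ((CohTop.pull i).obj F) p)) := by
  let R := injectiveResolution F
  haveI := FlasquePush.push_pfl f
  obtain ⟨e₁⟩ := H16Derived.AcyclicLES.nonempty_rightDerived_iso (CohTop.push f) R.cochainComplex 0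
    (fun k => inferInstance) R.ι' p
  obtain ⟨e₄⟩ := nonempty_H_iso_pull_resolution_gen i he hA F R p
  haveI : PreservesFiniteLimits (stk y) := inferInstanceAs
    (PreservesFiniteLimits (TopCat.Sheaf.forget AddCommGrpCat.{u} Y ⋙ TopCat.Presheaf.stalkFunctor _ y))
  haveI : PreservesFiniteColimits (stk y) := inferInstanceAs
    (PreservesFiniteColimits (TopCat.Sheaf.forget AddCommGrpCat.{u} Y ⋙ TopCat.Presheaf.stalkFunctor _ y))
  let K := ((CohTop.push f).mapHomologicalComplex (ComplexShape.up ℤ)).obj R.cochainComplex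
  haveI : ∀ G, IsIso (gStkRest f i y hi G) := fun G =>
    (ConcreteCategory.isIso_iff_bijective _).2 (bijective_gStkRest f i y hi he hA hf hfib G)
  let e₃ : ((stk y).mapHomologicalComplex (ComplexShape.up ℤ)).obj K ≅
      ΓCx (((CohTop.pull i).mapHomologicalComplex (ComplexShape.up ℤ)).obj R.cochainComplex) :=
    HomologicalComplex.Hom.isoOfComponents (fun k => asIso (gStkRest f i y hi (R.cochainComplex.X k)))
      (fun a b _ => (gStkRest_nat f i y hi (R.cochainComplex.d a b)).symm)
  exact ⟨(stk y).mapIso e₁ ≪≫ ((K.sc (p : ℤ)).mapHomologyIso (stk y)).symm ≪≫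
    HomologicalComplex.homologyMapIso e₃ (p : ℤ) ≪≫ e₄⟩

theorem genIn_preimage [SpectralSpace X] [SpectralSpace Y] (hf : IsSpectralMap f) :
    GenIn {x : X | f x ⤳ y} := by
  refine ⟨?_, fun a b hba ha => (hba.map hf.continuous).trans ha⟩
  refine H28Top.isCompact_of_isClosed_constr ?_
  have h : @IsClosed Y (constructibleTopology Y) {z : Y | ∃ e ∈ ({y} : Set Y), z ⤳ e} :=
    H28Top.isClosed_constr_generalization isCompact_singleton
  have e : {x : X | f x ⤳ y} = f ⁻¹' {z : Y | ∃ e ∈ ({y} : Set Y), z ⤳ e} := by ext x; simp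
  rw [e]
  exact @IsClosed.preimage _ _ (constructibleTopology X) (constructibleTopology Y) _
    (H28Top.continuous_constr_of_isSpectralMap hf) _ h

end Groth.Agent.H15Site.PBC
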